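import Cfsg.Agent.USixType.Ext.Fixed.Setting

/-!
# No shifts of an outer involution
-/

set_option autoImplicit false
set_option Elab.async false
set_option maxRecDepth 100000
set_option linter.style.haveILetI false
set_option linter.unusedSectionVars false

namespace Cfsg.Lib.USixType.Ext.FixSetting

open Subgroup

universe u

variable {G : Type u} [Group G] [Finite G] {z : G} {J I : Subgroup G} (S : FixSetting z J I)

include S

/-- Conjugation by an element of the centraliser moves `z`-multiples to `z`-multiples. -/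
theorem zp_conj {g x : G} (hg : g ∈ centralizer ({z} : Set G)) (hx : x ∈ zpowers z) : g * x * g⁻¹ = x := by
  obtain ⟨n, rfl⟩ := hx
  rw [((S.comm_z hg).zpow_right n).eq, mul_inv_cancel_right]

/-- An abelian subgroup of the core has order at most `2^5`. -/
theorem abelian_le (W : Subgroup G) (hW : W ≤ J) (hz : z ∈ W) (hc : ∀ a ∈ W, ∀ b ∈ W, Commute a b) :
    Nat.card ↥W ≤ 32 := by
  classical
  letI : Fintype ↥J := Fintype.ofFinite _
  letI : Fintype ↥W := Fintype.ofFinite _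
  set N := ∑ w : ↥W, ∑ q : ↥J, if Commute (q : G) w then 1 else 0 with hN
  -- at most
  have hup : 2 * N ≤ 512 * Nat.card ↥W + 1024 := by
    have hle : ∀ w : ↥W, 2 * (∑ q : ↥J, if Commute (q : G) w then 1 else 0) ≤
        512 + if (w : G) ∈ zpowers z then 512 else 0 := fun w => by
      rw [← Finset.card_filter, ← Fintype.card_subtype, ← Nat.card_eq_fintype_card]
      by_cases hwz : (w : G) ∈ zpowers z
      · rw [if_pos hwz]
        have := Finite.card_subtype_le (fun q : ↥J => Commute (q : G) w)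
        rw [S.card] at this
        omega
      · rw [if_neg hwz, add_zero]
        let K : Subgroup ↥J := (centralizer ({(w : G)} : Set G)).subgroupOf J
        have hK : Nat.card ↥K = Nat.card {q : ↥J // Commute (q : G) w} :=
          Nat.card_congr (Equiv.subtypeEquivRight fun q => mem_centralizer_singleton_iff)
        have hne : K ≠ ⊤ := fun e => hwz (S.central (hW w.2) fun q hq =>
          ((mem_centralizer_singleton_iff.1 (show (q : G) ∈ centralizer ({(w : G)} : Set G) from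
            ((e ▸ Subgroup.mem_top _) : (⟨q, hq⟩ : ↥J) ∈ K)) : Commute q (w : G))).symm)
        have h1 := K.card_mul_index
        have h2 : 2 ≤ K.index := by
          have := Subgroup.index_ne_zero_of_finite (H := K)
          have := mt Subgroup.index_eq_one.1 hne
          omega
        have := Nat.mul_le_mul_left (Nat.card ↥K) h2
        rw [h1, S.card, hK] at this
        omega
    have hz2 : (∑ w : ↥W, if (w : G) ∈ zpowers z then 512 else 0) = 1024 := by
      rw [← Finset.sum_filter, Finset.sum_const, smul_eq_mul, ← Fintype.card_subtype, ← Nat.card_eq_fintype_card]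
      have e : {w : ↥W // (w : G) ∈ zpowers z} ≃ ↥(zpowers z) :=
        { toFun := fun w => ⟨w.1, w.2⟩
          invFun := fun x => ⟨⟨x, zpowers_le.2 hz x.2⟩, x.2⟩
          left_inv := fun _ => rfl
          right_inv := fun _ => rfl }
      rw [Nat.card_congr e, S.card_zp]
    calc 2 * N ≤ ∑ w : ↥W, (512 + if (w : G) ∈ zpowers z then 512 else 0) := by
          rw [hN, Finset.mul_sum]; exact Finset.sum_le_sum fun w _ => hle w
      _ = _ := by
          rw [Finset.sum_add_distrib, hz2, Finset.sum_const, Finset.card_univ, smul_eq_mul, ← Nat.card_eq_fintype_card,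
            mul_comm]
  -- at least
  have hdown : Nat.card ↥W * Nat.card ↥W + 512 * Nat.card ↥W ≤ 2 * N := by
    have hge : ∀ q : ↥J, Nat.card ↥W + (if (q : G) ∈ W then Nat.card ↥W else 0) ≤
        2 * ∑ w : ↥W, if Commute (q : G) w then 1 else 0 := fun q => by
      rw [← Finset.card_filter, ← Fintype.card_subtype, ← Nat.card_eq_fintype_card (α := {w : ↥W // Commute (q : G) w})]
      by_cases hq : (q : G) ∈ W
      · rw [if_pos hq, Nat.card_congr (Equiv.subtypeUnivEquiv (p := fun w : ↥W => Commute (q : G) w)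
          fun w => hc _ hq _ w.2), two_mul]
      · rw [if_neg hq, add_zero]
        by_cases hall : ∀ w : ↥W, Commute (q : G) w
        · rw [Nat.card_congr (Equiv.subtypeUnivEquiv hall)]; omega
        · push Not at hall
          obtain ⟨w₀, hw₀⟩ := hall
          let F : Bool × {w : ↥W // Commute (q : G) w} → ↥W := fun p => if p.1 then w₀ * p.2.1 else p.2.1
          have hF : Function.Surjective F := fun k => by
            by_cases hk : Commute (q : G) k
            · exact ⟨(false, ⟨k, hk⟩), rfl⟩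
            · refine ⟨(true, ⟨w₀⁻¹ * k, ?_⟩), mul_inv_cancel_left _ _⟩
              have hna' : ¬ Commute (q : G) (w₀ : G)⁻¹ := fun e => hw₀ (Commute.inv_right_iff.1 e)
              exact S.mul_comm_of_not (S.comm_z (S.memC (hW k.2)))
                ((S.conj_cases q.2 (inv_mem (hW w₀.2))).resolve_left fun e => hna' (mul_inv_eq_iff_eq_mul.1 e))
                ((S.conj_cases q.2 (hW k.2)).resolve_left fun e => hk (mul_inv_eq_iff_eq_mul.1 e))
          have := Nat.card_le_card_of_surjective F hF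
          rwa [Nat.card_prod, show Nat.card Bool = 2 by simp] at this
    have hsum : (∑ q : ↥J, if (q : G) ∈ W then Nat.card ↥W else 0) = Nat.card ↥W * Nat.card ↥W := by
      rw [← Finset.sum_filter, Finset.sum_const, smul_eq_mul, ← Fintype.card_subtype, ← Nat.card_eq_fintype_card]
      have e : {q : ↥J // (q : G) ∈ W} ≃ ↥W :=
        { toFun := fun q => ⟨q.1, q.2⟩
          invFun := fun w => ⟨⟨w, hW w.2⟩, w.2⟩
          left_inv := fun _ => rfl
          right_inv := fun _ => rfl }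
      rw [Nat.card_congr e]
    calc Nat.card ↥W * Nat.card ↥W + 512 * Nat.card ↥W
        = ∑ q : ↥J, (Nat.card ↥W + if (q : G) ∈ W then Nat.card ↥W else 0) := by
          rw [Finset.sum_add_distrib, hsum, Finset.sum_const, Finset.card_univ, smul_eq_mul, ← Nat.card_eq_fintype_card,
            S.card]
          ring
      _ ≤ _ := by rw [hN, Finset.sum_comm, Finset.mul_sum]; exact Finset.sum_le_sum fun q _ => hge q
  by_contra h
  have := Nat.mul_le_mul (show 33 ≤ Nat.card ↥W by omega) (show 33 ≤ Nat.card ↥W by omega)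
  omega

set_option maxHeartbeats 1000000 in
/-- An involution of the centraliser with elementary centraliser in the core has a shift of the wrong kind. -/
theorem shift_false {s : G} (hs : s ∈ centralizer ({z} : Set G)) (hs2 : s * s = 1)
    (hroot : ∀ w ∈ J, Commute w s → w * w ≠ z) (Inn : G → Prop)
    (hshift : ∀ p ∈ J, Commute (s * p⁻¹ * s * p) s → s * p⁻¹ * s * p ≠ 1 → ¬ Inn (s * p⁻¹ * s * p))
    (hinn : ∀ x ∈ J, Commute x s → ∀ y ∈ J, Commute y s → ¬ Inn x → ¬ Inn y → Inn (x * y)) : False := by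
  classical
  have hsinv : s⁻¹ = s := inv_eq_of_mul_eq_one_left hs2
  let sh : G → G := fun p => s * p⁻¹ * s * p
  have shJ : ∀ {p : G}, p ∈ J → sh p ∈ J := fun {p} hp => by
    have := S.conj_J hs (inv_mem hp)
    rw [hsinv] at this
    exact mul_mem this hp
  have hrev : ∀ p, s * sh p * s⁻¹ = (sh p)⁻¹ := fun p => by
    show s * (s * p⁻¹ * s * p) * s⁻¹ = (s * p⁻¹ * s * p)⁻¹
    simp only [mul_inv_rev, inv_inv, hsinv, ← mul_assoc, hs2, one_mul]
  -- the preimage of the fixed vectors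
  let Φ : Subgroup G :=
    { carrier := {q | q ∈ J ∧ s * q * s⁻¹ * q⁻¹ ∈ zpowers z}
      one_mem' := ⟨one_mem J, by simp⟩
      mul_mem' := fun {p q} hp hq => ⟨mul_mem hp.1 hq.1, by
        rw [show s * (p * q) * s⁻¹ * (p * q)⁻¹ = (s * p * s⁻¹ * p⁻¹) * (p * (s * q * s⁻¹ * q⁻¹) * p⁻¹) by group,
          S.zp_conj (S.memC hp.1) hq.2]
        exact mul_mem hp.2 hq.2⟩
      inv_mem' := fun {q} hq => ⟨inv_mem hq.1, by
        rw [show s * q⁻¹ * s⁻¹ * q⁻¹⁻¹ = q⁻¹ * (s * q * s⁻¹ * q⁻¹)⁻¹ * q⁻¹⁻¹ by group,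
          S.zp_conj (inv_mem (S.memC hq.1)) (inv_mem hq.2)]
        exact inv_mem hq.2⟩ }
  set E := J ⊓ centralizer ({s} : Set G) with hE
  have hEΦ : E ≤ Φ := fun q hq => ⟨hq.1, by
    rw [(mem_centralizer_singleton_iff.1 hq.2).symm, mul_inv_cancel_right, mul_inv_cancel]; exact one_mem _⟩
  have hΦsh : ∀ {y : G}, y ∈ Φ → ∀ {p : G}, p ∈ J → Commute y (sh p) := by
    intro y hy p hp
    refine mul_inv_eq_iff_eq_mul.1 ?_
    have e1 : y * s * y⁻¹ = s ∨ y * s * y⁻¹ = s * z := by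
      rcases S.cases (inv_mem hy.2) with e | e
      all_goals rw [show (s * y * s⁻¹ * y⁻¹)⁻¹ = y * s * y⁻¹ * s⁻¹ by group, mul_inv_eq_iff_eq_mul] at e
      · exact Or.inl (by rw [e, one_mul])
      · exact Or.inr (by rw [e, ← (S.comm_z hs).eq])
    have e2 : y * p⁻¹ * y⁻¹ = p⁻¹ ∨ y * p⁻¹ * y⁻¹ = p⁻¹ * z := S.conj_cases hy.1 (inv_mem hp)
    show y * (s * p⁻¹ * s * p) * y⁻¹ = s * p⁻¹ * s * p
    rw [show y * (s * p⁻¹ * s * p) * y⁻¹ = (y * s * y⁻¹) * (y * p⁻¹ * y⁻¹) * (y * s * y⁻¹) * (y * p⁻¹ * y⁻¹)⁻¹ by group]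
    have zm : ∀ {u : G}, Commute u z → ∀ w, u * (z * w) = z * (u * w) := fun hu w => by
      rw [← mul_assoc, hu.eq, mul_assoc]
    have hp' : Commute p⁻¹ z := (S.comm_z (S.memC hp)).inv_left
    have zz : ∀ w, z * (z * w) = w := fun w => by rw [← mul_assoc, S.z_sq, one_mul]
    rcases e1 with a | a <;> rcases e2 with b | b <;> rw [a, b] <;>
      simp only [mul_inv_rev, inv_inv, S.z_inv, mul_assoc, zm (S.comm_z hs), zm hp', zz]
  have hsh : ∀ {p}, p ∈ J → sh p ∈ Φ := fun {p} hp => ⟨shJ hp, by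
    rw [hrev, ← mul_inv_rev]
    exact inv_mem (S.sq_mem (shJ hp))⟩
  have shmul : ∀ p q, sh (p * q) = sh q * (q⁻¹ * sh p * q) := fun p q => by
    show s * (p * q)⁻¹ * s * (p * q) = s * q⁻¹ * s * q * (q⁻¹ * (s * p⁻¹ * s * p) * q)
    calc _ = s * q⁻¹ * p⁻¹ * s * p * q := by group
      _ = s * q⁻¹ * (s * s) * p⁻¹ * s * p * q := by rw [hs2, mul_one]
      _ = _ := by group
  have shmul' : ∀ {p q}, p ∈ J → q ∈ J → (sh p * sh q)⁻¹ * sh (p * q) ∈ zpowers z := fun {p q} hp hq => by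
    have hpq : sh p * sh q = sh q * sh p := (hΦsh (hsh hp) hq).eq
    rw [shmul, hpq, show (sh q * sh p)⁻¹ * (sh q * (q⁻¹ * sh p * q)) = (sh p)⁻¹ * q⁻¹ * (sh p)⁻¹⁻¹ * q⁻¹⁻¹ by group]
    exact S.comm_mem (inv_mem (shJ hp)) (inv_mem hq)
  let Im : Subgroup G :=
    { carrier := {x | ∃ p ∈ J, (sh p)⁻¹ * x ∈ zpowers z}
      one_mem' := ⟨1, one_mem J, by
        show (s * 1⁻¹ * s * 1)⁻¹ * 1 ∈ _
        simp [hs2]⟩
      mul_mem' := by
        rintro x y ⟨p, hp, hx⟩ ⟨q, hq, hy⟩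
        refine ⟨p * q, mul_mem hp hq, ?_⟩
        rw [show (sh (p * q))⁻¹ * (x * y) =
          ((sh p * sh q)⁻¹ * sh (p * q))⁻¹ * ((sh q)⁻¹ * ((sh p)⁻¹ * x) * (sh q)⁻¹⁻¹) * ((sh q)⁻¹ * y) by group,
          S.zp_conj (inv_mem (S.memC (shJ hq))) hx]
        exact mul_mem (mul_mem (inv_mem (shmul' hp hq)) hx) hy
      inv_mem' := by
        rintro x ⟨p, hp, hx⟩
        refine ⟨p, hp, ?_⟩
        have hxJ : x ∈ J := by
          rw [show x = sh p * ((sh p)⁻¹ * x) by group]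
          exact mul_mem (shJ hp) ((zpowers_le.2 S.mem) hx)
        rw [show (sh p)⁻¹ * x⁻¹ = ((sh p)⁻¹ * x) * (x * x)⁻¹ by group]
        exact mul_mem hx (inv_mem (S.sq_mem hxJ)) }
  have hImJ : ∀ {x}, x ∈ Im → x ∈ J := by
    rintro x ⟨p, hp, hx⟩
    rw [show x = sh p * ((sh p)⁻¹ * x) by group]
    exact mul_mem (shJ hp) ((zpowers_le.2 S.mem) hx)
  have hzΦ : z ∈ Φ := ⟨S.mem, by rw [S.zp_conj hs (mem_zpowers z), mul_inv_cancel]; exact one_mem _⟩
  have hImΦ : Im ≤ Φ := by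
    rintro x ⟨p, hp, hx⟩
    rw [show x = sh p * ((sh p)⁻¹ * x) by group]
    exact mul_mem (hsh hp) ((zpowers_le.2 hzΦ) hx)
  have hΦIm : ∀ {y}, y ∈ Φ → ∀ {x}, x ∈ Im → Commute y x := by
    rintro y hy x ⟨p, hp, hx⟩
    rw [show x = sh p * ((sh p)⁻¹ * x) by group]
    refine (hΦsh hy hp).mul_right ?_
    obtain ⟨n, hn⟩ := hx
    rw [← show z ^ n = (sh p)⁻¹ * x from hn]
    exact (S.comm_z (S.memC hy.1)).zpow_right n
  have hzE : z ∈ E := ⟨S.mem, mem_centralizer_singleton_iff.2 (S.comm_z hs).eq.symm⟩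
  have hzIm : z ∈ Im := ⟨1, one_mem J, by
    show (s * 1⁻¹ * s * 1)⁻¹ * z ∈ _
    simp [hs2]⟩
  have hE2 : ∀ q ∈ E, q * q = 1 := fun q hq =>
    (S.cases (S.sq_mem hq.1)).resolve_right (hroot q hq.1 (mem_centralizer_singleton_iff.1 hq.2))
  -- the counting
  have hcount : 1024 ≤ Nat.card ↥Φ * Nat.card ↥Im := by
    letI : Setoid ↥J := QuotientGroup.leftRel (Φ.subgroupOf J)
    have hinj : ∀ p q : ↥J, (sh p)⁻¹ * sh q ∈ zpowers z → (p : G)⁻¹ * q ∈ Φ := fun p q h => by
      have h1 : (p : G)⁻¹ * q ∈ J := mul_mem (inv_mem p.2) q.2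
      refine ⟨h1, ?_⟩
      have h2 : sh ((p : G)⁻¹ * q) = s * ((q : G)⁻¹ * p) * s⁻¹ * ((q : G)⁻¹ * p)⁻¹ := by
        show s * ((p : G)⁻¹ * q)⁻¹ * s * ((p : G)⁻¹ * q) = _
        rw [hsinv]; group
      have h3 : sh ((p : G)⁻¹ * q) ∈ zpowers z := by
        have a := shmul' p.2 h1
        rw [mul_inv_cancel_left] at a
        rw [show sh ((p : G)⁻¹ * q) = (sh p)⁻¹ * sh q * ((sh p * sh ((p : G)⁻¹ * q))⁻¹ * sh q)⁻¹ by
          have hc := (hΦsh (hsh q.2) p.2).eq
          have hc2 := (hΦsh (hsh h1) p.2).eq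
          group]
        exact mul_mem h (inv_mem a)
      have h4 : ((q : G)⁻¹ * p) ∈ Φ := ⟨mul_mem (inv_mem q.2) p.2, h2 ▸ h3⟩
      have := inv_mem h4
      rw [mul_inv_rev, inv_inv] at this
      exact this.2
    let F : (↥J ⧸ Φ.subgroupOf J) × ↥(zpowers z) → ↥Im := fun c =>
      ⟨sh (c.1.out : ↥J) * c.2, mul_mem ⟨c.1.out, c.1.out.2, by rw [inv_mul_cancel]; exact one_mem _⟩
        ((zpowers_le.2 hzIm) c.2.2)⟩
    have hF : Function.Injective F := fun a b e => by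
      have e' : sh (a.1.out : ↥J) * a.2 = sh (b.1.out : ↥J) * b.2 := congrArg Subtype.val e
      have h1 : (sh (a.1.out : ↥J))⁻¹ * sh (b.1.out : ↥J) ∈ zpowers z := by
        rw [show (sh (a.1.out : ↥J))⁻¹ * sh (b.1.out : ↥J) = (a.2 : G) * (b.2 : G)⁻¹ by
          rw [inv_mul_eq_iff_eq_mul, ← mul_assoc, e', mul_inv_cancel_right]]
        exact mul_mem a.2.2 (inv_mem b.2.2)
      have h2 : a.1 = b.1 := by
        rw [← QuotientGroup.out_eq' a.1, ← QuotientGroup.out_eq' b.1, QuotientGroup.eq]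
        exact hinj _ _ h1
      refine Prod.ext h2 (Subtype.ext ?_)
      rw [h2] at e'
      exact mul_left_cancel e'
    have h := Nat.card_le_card_of_injective F hF
    rw [Nat.card_prod, S.card_zp] at h
    have hidx := Subgroup.card_eq_card_quotient_mul_card_subgroup (Φ.subgroupOf J)
    rw [S.card, Nat.card_congr (Subgroup.subgroupOfEquivOfLe (fun q hq => hq.1 : Φ ≤ J)).toEquiv] at hidx
    have := Nat.mul_le_mul_left (Nat.card ↥Φ) h
    calc 1024 = Nat.card ↥Φ * (Nat.card (↥J ⧸ Φ.subgroupOf J) * 2) := by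
          rw [← mul_assoc, mul_comm (Nat.card ↥Φ), ← hidx]; norm_num
      _ ≤ _ := this
  have hΦE : Nat.card ↥Φ ≤ 2 * Nat.card ↥E := by
    have hEi : E = Φ ⊓ centralizer ({s} : Set G) :=
      le_antisymm (fun q hq => ⟨hEΦ hq, hq.2⟩) fun q hq => ⟨hq.1.1, hq.2⟩
    rw [hEi]
    by_cases hall : Φ ≤ centralizer ({s} : Set G)
    · rw [inf_of_le_left hall]; omega
    obtain ⟨a, ha, ha'⟩ := SetLike.not_le_iff_exists.1 hall
    have hz' : ∀ {q : G}, q ∈ Φ → q ∉ centralizer ({s} : Set G) → s * q * s⁻¹ = q * z := fun {q} hq hn => by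
      rcases S.cases hq.2 with e | e
      · exact absurd (mem_centralizer_singleton_iff.2 (mul_inv_eq_iff_eq_mul.1 (mul_inv_eq_one.1 e)).symm) hn
      · rw [mul_inv_eq_iff_eq_mul.1 e]
        exact (S.comm_z (S.memC hq.1)).symm.eq
    let F : Bool × ↥(Φ ⊓ centralizer ({s} : Set G)) → ↥Φ := fun p =>
      if p.1 then ⟨a * p.2.1, mul_mem ha p.2.2.1⟩ else ⟨p.2.1, p.2.2.1⟩
    have hF : Function.Surjective F := fun k => by
      by_cases hk : (k : G) ∈ centralizer ({s} : Set G)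
      · exact ⟨(false, ⟨k, k.2, hk⟩), rfl⟩
      · have e := S.mul_comm_of_not (S.comm_z (S.memC k.2.1))
          (hz' (Φ.inv_mem ha) fun e => ha' (inv_mem_iff.1 e)) (hz' k.2 hk)
        exact ⟨(true, ⟨a⁻¹ * k, Φ.mul_mem (Φ.inv_mem ha) k.2, mem_centralizer_singleton_iff.2 e.eq.symm⟩),
          Subtype.ext (mul_inv_cancel_left a k)⟩
    have := Nat.card_le_card_of_surjective F hF
    rwa [Nat.card_prod, show Nat.card Bool = 2 by simp] at this
  set W := E ⊔ Im with hWdef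
  have hWJ : W ≤ J := sup_le inf_le_left fun x hx => hImJ hx
  have hWc : ∀ a ∈ W, ∀ b ∈ W, Commute a b := by
    have h1 : W ≤ centralizer ((E : Set G) ∪ Im) := by
      refine sup_le (fun e he => ?_) fun i hi => ?_ <;> refine mem_centralizer_iff.2 ?_
      · rintro y (hy | hy)
        · calc y * e = (y * e)⁻¹ := eq_inv_of_mul_eq_one_left (hE2 _ (mul_mem hy he))
            _ = e * y := by
              rw [mul_inv_rev, inv_eq_of_mul_eq_one_left (hE2 e he), inv_eq_of_mul_eq_one_left (hE2 y hy)]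
        · exact (hΦIm (hEΦ he) hy).symm.eq
      · rintro y (hy | hy)
        · exact (hΦIm (hEΦ hy) hi).eq
        · exact (hΦIm (hImΦ hy) hi).eq
    have h2 : W ≤ centralizer (W : Set G) := by
      refine sup_le ?_ ?_ <;> intro x hx <;> refine mem_centralizer_iff.2 fun y hy => ?_
      · exact (mem_centralizer_iff.1 (h1 hy) x (Or.inl hx)).symm
      · exact (mem_centralizer_iff.1 (h1 hy) x (Or.inr hx)).symm
    exact fun a ha b hb => (mem_centralizer_iff.1 (h2 ha) b hb).symm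
  have hW32 := S.abelian_le W hWJ (mem_sup_left hzE) hWc
  have hcap : 16 ≤ Nat.card ↥(E ⊓ Im) := by
    let P : ↥W → Prop := fun w => ∃ e : ↥E, (e : G)⁻¹ * w ∈ Im
    let sec : ↥W → ↥E := fun w => if h : P w then h.choose else 1
    have hsec : ∀ (w : ↥W), P w → ((sec w : ↥E) : G)⁻¹ * w ∈ Im := fun w h => by
      simp only [sec, dif_pos h]
      exact h.choose_spec
    let w : ↥E × ↥Im → ↥W := fun c => ⟨c.1 * c.2, mul_mem (mem_sup_left c.1.2) (mem_sup_right c.2.2)⟩
    have hP : ∀ c, P (w c) := fun c => ⟨c.1, by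
      show (c.1 : G)⁻¹ * (c.1 * c.2) ∈ Im
      rw [inv_mul_cancel_left]; exact c.2.2⟩
    let F : ↥E × ↥Im → ↥W × ↥(E ⊓ Im) := fun c => (w c, ⟨((sec (w c) : ↥E) : G)⁻¹ * c.1,
      E.mul_mem (E.inv_mem (sec (w c)).2) c.1.2, by
        have := Im.mul_mem (hsec _ (hP c)) (Im.inv_mem c.2.2)
        rwa [show ((sec (w c) : ↥E) : G)⁻¹ * (w c : G) * (c.2 : G)⁻¹ = ((sec (w c) : ↥E) : G)⁻¹ * c.1 by
          show _ * ((c.1 : G) * c.2) * _ = _; group] at this⟩)
    have hF : Function.Injective F := fun a b e => by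
      have e1 := congrArg Prod.fst e
      have e2 := congrArg (fun r : ↥W × ↥(E ⊓ Im) => (r.2 : G)) e
      simp only [F] at e1 e2
      rw [e1] at e2
      have h1 := mul_left_cancel e2
      have h3 : (a.1 : G) * a.2 = b.1 * b.2 := congrArg Subtype.val e1
      rw [h1] at h3
      exact Prod.ext (Subtype.ext h1) (Subtype.ext (mul_left_cancel h3))
    have h := Nat.card_le_card_of_injective F hF
    rw [Nat.card_prod, Nat.card_prod] at h
    have h5 := Nat.mul_le_mul_right (Nat.card ↥Im) hΦE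
    by_contra h16
    have h6 := Nat.mul_le_mul hW32 (show Nat.card ↥(E ⊓ Im) ≤ 15 by omega)
    have h7 : 1024 ≤ 2 * (Nat.card ↥E * Nat.card ↥Im) := by rw [← mul_assoc]; exact hcount.trans h5
    omega
  -- shifts in the intersection
  have hpick : ∀ k ∈ E ⊓ Im, ∃ p ∈ J, (sh p)⁻¹ * k ∈ zpowers z ∧ Commute (sh p) s ∧ sh p ∈ E := by
    rintro k ⟨hkE, p, hp, hk⟩
    have hm : sh p ∈ E := by
      rw [show sh p = k * ((sh p)⁻¹ * k)⁻¹ by group]
      exact mul_mem hkE ((zpowers_le.2 hzE) (inv_mem hk))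
    exact ⟨p, hp, hk, mem_centralizer_singleton_iff.1 hm.2, hm⟩
  have key : ∀ p ∈ J, sh p ∈ E → sh p ∉ zpowers z → ∀ q ∈ J, sh q ∈ E → sh q ∉ zpowers z →
      (sh p)⁻¹ * sh q ∉ zpowers z → ¬ Commute (sh p) q := by
    intro p hp hpE hpz q hq hqE hqz hne hcom
    have e : sh (p * q) = sh q * sh p := by rw [shmul, mul_assoc q⁻¹, hcom.eq, inv_mul_cancel_left]
    have hE' : sh (p * q) ∈ E := e ▸ mul_mem hqE hpE
    have hn1 : sh (p * q) ≠ 1 := fun h1 => hne (by
      rw [e] at h1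
      rw [eq_inv_of_mul_eq_one_left h1, ← mul_inv_rev]
      exact inv_mem (S.sq_mem (shJ hp)))
    have cs : ∀ {x}, x ∈ E → Commute x s := fun hx => mem_centralizer_singleton_iff.1 hx.2
    have n1 := hshift p hp (cs hpE) fun h => hpz ((show sh p = 1 from h).symm ▸ one_mem _)
    have n2 := hshift q hq (cs hqE) fun h => hqz ((show sh q = 1 from h).symm ▸ one_mem _)
    have n3 := hshift (p * q) (mul_mem hp hq) (cs hE') hn1
    apply n3
    show Inn (sh (p * q))
    rw [e]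
    exact hinn _ (shJ hq) (cs hqE) _ (shJ hp) (cs hpE) n2 n1
  set K := E ⊓ Im
  have small : ∀ L : Finset G, L.card ≤ 8 → ∃ k ∈ K, k ∉ L := fun L hL => by
    by_contra hh
    push Not at hh
    have := Set.ncard_le_ncard (s := (K : Set G)) (t := (L : Set G)) (fun k hk => hh k hk)
    rw [Set.ncard_coe_finset, ← Nat.card_coe_set_eq] at this
    change Nat.card ↥K ≤ _ at this
    omega
  obtain ⟨k1, hk1, n1⟩ := small {1, z} (Finset.card_le_two.trans (by norm_num))
  obtain ⟨k2, hk2, n2⟩ := small {1, z, k1, k1 * z} (Finset.card_le_four.trans (by norm_num))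
  obtain ⟨k3, hk3, n3⟩ := small ({1, z, k1, k1 * z} ∪ {k2, k2 * z, k2⁻¹ * k1, k2⁻¹ * (k1 * z)}) (by
    refine (Finset.card_union_le _ _).trans ?_
    have a := Finset.card_le_four (a := (1 : G)) (b := z) (c := k1) (d := k1 * z)
    have b := Finset.card_le_four (a := k2) (b := k2 * z) (c := k2⁻¹ * k1) (d := k2⁻¹ * (k1 * z))
    omega)
  simp only [Finset.mem_union, Finset.mem_insert, Finset.mem_singleton, not_or] at n1 n2 n3
  obtain ⟨p1, hp1, c1, -, E1⟩ := hpick k1 hk1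
  obtain ⟨p2, hp2, c2, -, E2⟩ := hpick k2 hk2
  obtain ⟨p3, hp3, c3, -, E3⟩ := hpick k3 hk3
  have notz : ∀ {k p}, (sh p)⁻¹ * k ∈ zpowers z → k ≠ 1 ∧ k ≠ z → sh p ∉ zpowers z := fun {k p} hc hn h => by
    have : k ∈ zpowers z := by rw [show k = sh p * ((sh p)⁻¹ * k) by group]; exact mul_mem h hc
    rcases S.cases this with e | e
    exacts [hn.1 e, hn.2 e]
  have diff : ∀ {k l p q}, (sh p)⁻¹ * k ∈ zpowers z → (sh q)⁻¹ * l ∈ zpowers z → l ≠ k ∧ l ≠ k * z →
      (sh p)⁻¹ * sh q ∉ zpowers z := fun {k l p q} hc hd hn h => by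
    have : k⁻¹ * l ∈ zpowers z := by
      rw [show k⁻¹ * l = ((sh p)⁻¹ * k)⁻¹ * ((sh p)⁻¹ * sh q) * ((sh q)⁻¹ * l) by group]
      exact mul_mem (mul_mem (inv_mem hc) h) hd
    rcases S.cases this with e | e
    exacts [hn.1 (inv_mul_eq_one.1 e).symm, hn.2 (inv_mul_eq_iff_eq_mul.1 e)]
  have a12 := key p1 hp1 E1 (notz c1 n1) p2 hp2 E2 (notz c2 ⟨n2.1, n2.2.1⟩) (diff c1 c2 ⟨n2.2.2.1, n2.2.2.2⟩)
  have a13 := key p1 hp1 E1 (notz c1 n1) p3 hp3 E3 (notz c3 ⟨n3.1.1, n3.1.2.1⟩)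
    (diff c1 c3 ⟨n3.1.2.2.1, n3.1.2.2.2⟩)
  have c23 : (sh (p2 * p3))⁻¹ * (k2 * k3) ∈ zpowers z := by
    rw [show (sh (p2 * p3))⁻¹ * (k2 * k3) = ((sh p2 * sh p3)⁻¹ * sh (p2 * p3))⁻¹ *
      ((sh p3)⁻¹ * ((sh p2)⁻¹ * k2) * (sh p3)⁻¹⁻¹) * ((sh p3)⁻¹ * k3) by group,
      S.zp_conj (inv_mem (S.memC (shJ hp3))) c2]
    exact mul_mem (mul_mem (inv_mem (shmul' hp2 hp3)) c2) c3
  have E23 : sh (p2 * p3) ∈ E := by
    rw [show sh (p2 * p3) = (k2 * k3) * ((sh (p2 * p3))⁻¹ * (k2 * k3))⁻¹ by group]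
    exact mul_mem (mul_mem hk2.1 hk3.1) ((zpowers_le.2 hzE) (inv_mem c23))
  have hi : k2⁻¹ = k2 := inv_eq_of_mul_eq_one_left (hE2 k2 hk2.1)
  refine key p1 hp1 E1 (notz c1 n1) (p2 * p3) (mul_mem hp2 hp3) E23 (notz c23 ⟨?_, ?_⟩) (diff c1 c23 ⟨?_, ?_⟩)
    (S.mul_comm_of_not (S.comm_z (S.memC hp3))
      ((S.conj_cases (shJ hp1) hp2).resolve_left fun e => a12 (mul_inv_eq_iff_eq_mul.1 e))
      ((S.conj_cases (shJ hp1) hp3).resolve_left fun e => a13 (mul_inv_eq_iff_eq_mul.1 e)))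
  · intro e
    exact n3.2.1 (by rw [← hi]; exact eq_inv_of_mul_eq_one_right e)
  · intro e
    exact n3.2.2.1 (by rw [← e, ← mul_assoc, hE2 k2 hk2.1, one_mul])
  · intro e
    exact n3.2.2.2.1 (by rw [← e, inv_mul_cancel_left])
  · intro e
    exact n3.2.2.2.2 (by rw [← e, inv_mul_cancel_left])

end Cfsg.Lib.USixType.Ext.FixSetting
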