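import Cfsg.Agent.USixType.Ext.Fixed.Parts
import Cfsg.Agent.USixType.Ext.Fixed.Counting

/-!
# With a fixed vector there is no fusion
-/

set_option autoImplicit false
set_option Elab.async false
set_option maxRecDepth 100000
set_option linter.style.haveILetI false
set_option linter.unusedSectionVars false

namespace Cfsg.Lib.USixType.Ext.FixSetting

open Subgroup

universe u w

variable {G : Type u} [Group G] [Finite G] {z : G} {J I : Subgroup G} (S : FixSetting z J I)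

include S

/-- An element of the fixed part commuting with a noncentral one. -/
theorem cent_in_fix {x y : G} (hx : x ∈ S.fixPart) (hy : y ∈ S.fixPart) (hxz : x ∉ zpowers z) (hc : Commute x y) :
    y = 1 ∨ y = z ∨ y = x ∨ y = x * z := by
  obtain ⟨b, hb, hxb⟩ : ∃ b ∈ S.fixPart, ¬ Commute x b := by
    by_contra h
    push Not at h
    exact hxz (S.fixPart_center hx h)
  have cen : ∀ {u : G}, u ∈ S.fixPart → Commute u x → Commute u b → u ∈ zpowers z := fun hu h1 h2 =>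
    S.fixPart_center hu (S.commute_fix hx hb hxb h1 h2)
  by_cases hyb : Commute y b
  · rcases S.cases (cen hy hc.symm hyb) with e | e
    exacts [Or.inl e, Or.inr (Or.inl e)]
  · have h1 : Commute b (x * y) := S.mul_comm_of_not (S.comm_z (S.memC hy.1))
      ((S.conj_cases hb.1 hx.1).resolve_left fun e => hxb (mul_inv_eq_iff_eq_mul.1 e).symm)
      ((S.conj_cases hb.1 hy.1).resolve_left fun e => hyb (mul_inv_eq_iff_eq_mul.1 e).symm)
    have h2 := cen (mul_mem hx hy) ((Commute.refl x).mul_left hc.symm) h1.symm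
    have hxz' : Commute x z := S.comm_z (S.memC hx.1)
    have key : y = x ∨ y = x * z := by
      have e : y = x * ((x * x)⁻¹ * (x * y)) := by group
      rcases S.cases (mul_mem (inv_mem (S.sq_mem hx.1)) h2) with k | k <;> rw [k] at e
      · exact Or.inl (by simpa using e)
      · exact Or.inr e
    exact Or.inr (Or.inr key)

/-- Some element of the fixed part squares to the involution. -/
theorem exists_root : ∃ w ∈ S.fixPart, w * w = z := by
  obtain ⟨a, ha, b, hb, hab⟩ := S.exists_pair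
  rcases S.cases (S.sq_mem ha.1) with ea | ea
  swap
  · exact ⟨a, ha, ea⟩
  rcases S.cases (S.sq_mem hb.1) with eb | eb
  swap
  · exact ⟨b, hb, eb⟩
  refine ⟨a * b, mul_mem ha hb, ?_⟩
  have : a * b * a⁻¹ * b⁻¹ = z := (S.cases (S.comm_mem ha.1 hb.1)).resolve_left fun e =>
    hab (mul_inv_eq_iff_eq_mul.1 (mul_inv_eq_one.1 e))
  rw [inv_eq_of_mul_eq_one_left ea, inv_eq_of_mul_eq_one_left eb] at this
  rw [← this]
  simp only [mul_assoc]

set_option maxHeartbeats 1000000 in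
/-- The transfer of an element of the fixed part into an abelian quotient above the linear part is its value. -/
theorem value {M : Subgroup G} (hLM : S.lin ≤ M) {A : Type w} [CommGroup A]
    (lam : ↥(centralizer ({z} : Set G) ⊓ M) →* A) :
    ∃ V : ↥M →* A, (∀ l : ↥M, (l : G) ∈ S.lin → V l = 1) ∧
      ∀ (x : ↥M) (hx : (x : G) ∈ S.fixPart), V x = lam ⟨x, S.memC hx.1, x.2⟩ := by
  classical
  let zM : ↥M := ⟨z, hLM S.z_lin⟩
  let C' : Subgroup ↥M := centralizer ({zM} : Set ↥M)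
  have hC' : ∀ h : ↥M, h ∈ C' ↔ (h : G) ∈ centralizer ({z} : Set G) := fun h => by
    rw [mem_centralizer_singleton_iff, mem_centralizer_singleton_iff, Subtype.ext_iff]
    rfl
  let lam' : ↥C' →* A := lam.comp
    { toFun := fun h => ⟨(h : ↥M), (hC' h.1).1 h.2, (h : ↥M).2⟩
      map_one' := rfl
      map_mul' := fun _ _ => rfl }
  let V : ↥M →* A := MonoidHom.transfer lam'
  have hVlin : ∀ l : ↥M, (l : G) ∈ S.lin → V l = 1 := fun l hl =>
    S.lin_perfect (V.comp (Subgroup.inclusion hLM)) ⟨l, hl⟩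
  refine ⟨V, hVlin, fun x hx => ?_⟩
  by_cases hxz : (x : G) ∈ zpowers z
  · have hl : (x : G) ∈ S.lin := (zpowers_le.2 S.z_lin) hxz
    rw [hVlin x hl]
    exact (S.lin_perfect (lam.comp (Subgroup.inclusion (le_inf (fun g hg => S.inC hg.1) hLM))) ⟨x, hl⟩).symm
  let Q : Subgroup ↥M := S.rest.subgroupOf M
  have hQle : S.rest ≤ M := S.rest_le_lin.trans hLM
  have hJp : IsPGroup 2 ↥S.rest := (IsPGroup.of_card (n := 9) S.card).to_le inf_le_left
  refine (transfer_eq_value (rfl : C' = _) lam' Q (fun q hq => (hC' q).2 (S.memC hq.1))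
    (hJp.of_equiv (Subgroup.subgroupOfEquivOfLe hQle).symm)
    (fun q hq => Subtype.ext (mem_centralizer_iff.1 hq.2 x hx).symm)
    ((hC' x).2 (S.memC hx.1)) (Subtype.ext S.z_sq) ?_ ?_ ?_).trans rfl
  · rcases S.cases (S.sq_mem hx.1) with e | e
    exacts [Or.inl (Subtype.ext e), Or.inr (Subtype.ext e)]
  · intro Q₁ hQ₁ hcard
    obtain ⟨a, ha, b, hb, e⟩ := S.rest_big (Q₁.map M.subtype) (fun y ⟨q, hq, e⟩ => e ▸ hQ₁ hq) (by
      rwa [Subgroup.card_map_of_injective M.subtype_injective,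
        ← Nat.card_congr (Subgroup.subgroupOfEquivOfLe hQle).toEquiv])
    obtain ⟨a', ha', rfl⟩ := ha
    obtain ⟨b', hb', rfl⟩ := hb
    exact ⟨a', ha', b', hb', Subtype.ext e⟩
  · intro g hgx hgQ
    have hsC : (g : G) * z * (g : G)⁻¹ ∈ centralizer ({z} : Set G) := mem_centralizer_singleton_iff.2
      (congrArg Subtype.val (hgQ zM (S.z_rest : (zM : G) ∈ S.rest)).eq)
    have hsF : (g : G) * z * (g : G)⁻¹ ∈ S.fixPart := S.cent_rest hsC fun q hq =>
      congrArg Subtype.val (hgQ ⟨q, hQle hq⟩ hq).eq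
    rcases S.cent_in_fix hx hsF hxz (congrArg Subtype.val hgx.eq).symm with e | e | e | e
    · exact absurd (conj_eq_one_iff.1 e) S.z_ne
    · exact Or.inl (Subtype.ext e)
    · exact Or.inr (Or.inl (Subtype.ext e))
    · exact Or.inr (Or.inr (Subtype.ext e))

set_option maxHeartbeats 1000000 in
/-- A subgroup with all conjugates of the involution and without noncentral elements of the fixed part. -/
theorem exists_levels : ∃ M₁ M₂ : Subgroup G, S.lin ≤ M₂ ∧ (∀ g ∈ M₁, ∀ x ∈ M₂, g * x * g⁻¹ ∈ M₂) ∧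
    (∀ x ∈ S.fixPart, x ∈ M₂ → x ∈ zpowers z) ∧
    (∀ g : G, g ∈ M₁ ∨ ∃ f ∈ S.fixPart, g * f ∈ M₁) := by
  classical
  set C := centralizer ({z} : Set G) with hC
  obtain ⟨lam, f₁, hf₁, hlam⟩ := S.exists_sign
  obtain ⟨V, hVl, hVf⟩ := S.value (M := ⊤) le_top (lam.comp (Subgroup.inclusion (inf_le_left : C ⊓ ⊤ ≤ C)))
  let V₁ : G →* ℤˣ := V.comp Subgroup.topEquiv.symm.toMonoidHom
  have h1l : ∀ l ∈ S.lin, V₁ l = 1 := fun l hl => hVl ⟨l, Subgroup.mem_top l⟩ hl
  have h1f : V₁ f₁ = -1 := by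
    show V ⟨(f₁ : G), Subgroup.mem_top _⟩ = -1
    rw [hVf ⟨(f₁ : G), Subgroup.mem_top _⟩ hf₁]
    exact hlam
  set M₁ := V₁.ker with hM₁
  have hmem₁ : ∀ g : G, g ∈ M₁ ∨ g * f₁ ∈ M₁ := fun g => by
    rcases Int.units_eq_one_or (V₁ g) with e | e
    · exact Or.inl e
    · exact Or.inr (by rw [hM₁, MonoidHom.mem_ker, map_mul, e, h1f]; rfl)
  have hL1 : S.lin ≤ M₁ := h1l
  have hf₁M : (f₁ : G) ∉ M₁ := fun e => absurd ((MonoidHom.mem_ker.1 e).symm.trans h1f) (by decide)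
  -- four elements
  set A4 := S.fixPart ⊓ M₁ with hA4
  have hA4card : Nat.card ↥A4 = 4 := by
    let e : Bool × ↥A4 → ↥S.fixPart := fun p => if p.1 then ⟨p.2 * f₁, mul_mem p.2.2.1 hf₁⟩ else ⟨p.2, p.2.2.1⟩
    have he : Function.Bijective e := by
      refine ⟨?_, fun k => ?_⟩
      · rintro ⟨i, a⟩ ⟨j, b⟩ h
        cases i <;> cases j <;> simp only [e, Subtype.mk.injEq, Bool.false_eq_true, if_false, if_true] at h
        · exact Prod.ext rfl (Subtype.ext h)
        · exfalso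
          refine hf₁M ?_
          rw [show (f₁ : G) = (b : G)⁻¹ * a by rw [h, inv_mul_cancel_left]]
          exact mul_mem (inv_mem b.2.2) a.2.2
        · exfalso
          refine hf₁M ?_
          rw [show (f₁ : G) = (a : G)⁻¹ * b by rw [← h, inv_mul_cancel_left]]
          exact mul_mem (inv_mem a.2.2) b.2.2
        · exact Prod.ext rfl (Subtype.ext (mul_right_cancel h))
      · rcases hmem₁ k with h | h
        · exact ⟨(false, ⟨k, k.2, h⟩), rfl⟩
        · refine ⟨(true, ⟨k * (f₁ : G)⁻¹, S.fixPart.mul_mem k.2 (S.fixPart.inv_mem hf₁), ?_⟩), Subtype.ext (inv_mul_cancel_right _ _)⟩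
          rw [show (k : G) * (f₁ : G)⁻¹ = ((k : G) * f₁) * ((f₁ : G) * f₁)⁻¹ by group]
          refine M₁.mul_mem h (M₁.inv_mem ?_)
          rcases S.cases (S.sq_mem hf₁.1) with e | e <;> rw [e]
          exacts [one_mem _, hL1 S.z_lin]
    have := Nat.card_congr (Equiv.ofBijective e he)
    rw [Nat.card_prod, show Nat.card Bool = 2 by simp, S.fix_facts.1] at this
    omega
  obtain ⟨a, ha, haz⟩ : ∃ a ∈ A4, a ∉ zpowers z := by
    by_contra h
    push Not at h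
    have := Subgroup.card_le_of_le (H := A4) fun x hx => h x hx
    rw [hA4card, S.card_zp] at this
    omega
  have haC : a ∈ C := S.memC ha.1.1
  have hA4mem : ∀ x ∈ A4, x = 1 ∨ x = z ∨ x = a ∨ x = a * z := by
    have hsub : (({1, z, a, a * z} : Finset G) : Set G) ⊆ (A4 : Set G) := by
      intro x hx
      simp only [Finset.mem_coe, Finset.mem_insert, Finset.mem_singleton] at hx
      rcases hx with rfl | rfl | rfl | rfl
      exacts [one_mem _, ⟨S.z_fixPart, hL1 S.z_lin⟩, ha,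
        ⟨mul_mem ha.1 S.z_fixPart, mul_mem ha.2 (hL1 S.z_lin)⟩]
    have h4 : ({1, z, a, a * z} : Finset G).card = 4 := by
      have n1 : a ≠ 1 := fun e => haz (e ▸ one_mem _)
      have n2 : a ≠ z := fun e => haz (e ▸ mem_zpowers z)
      have n3 : a * z ≠ 1 := fun e => n2 (by rw [eq_inv_of_mul_eq_one_left e, S.z_inv])
      have n4 : a * z ≠ z := fun e => n1 (mul_eq_right.1 e)
      have n5 : a ≠ a * z := fun e => S.z_ne (mul_eq_left.1 e.symm)
      rw [Finset.card_insert_of_notMem, Finset.card_insert_of_notMem, Finset.card_insert_of_notMem,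
        Finset.card_singleton]
      · simp only [Finset.mem_singleton]; exact n5
      · simp only [Finset.mem_insert, Finset.mem_singleton, not_or]; exact ⟨n2.symm, n4.symm⟩
      · simp only [Finset.mem_insert, Finset.mem_singleton, not_or]; exact ⟨S.z_ne.symm, n1.symm, n3.symm⟩
    have heq := Set.eq_of_subset_of_ncard_le hsub (by
      rw [Set.ncard_coe_finset, h4, ← Nat.card_coe_set_eq]
      exact hA4card.le)
    intro x hx
    have : x ∈ (({1, z, a, a * z} : Finset G) : Set G) := heq ▸ hx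
    simpa using this
  have hin : ∀ i ∈ I, i ∈ M₁ → i ∈ S.lin ∨ a⁻¹ * i ∈ S.lin := by
    intro i hi hiM
    obtain ⟨f, hf, hl⟩ := S.lin_decomp hi
    have hfA : f ∈ A4 := ⟨hf, by
      rw [show f = i * (f⁻¹ * i)⁻¹ by group]
      exact M₁.mul_mem hiM (M₁.inv_mem (hL1 hl))⟩
    have hsplit : i = f * (f⁻¹ * i) := (mul_inv_cancel_left f i).symm
    rcases hA4mem f hfA with rfl | rfl | rfl | rfl
    · left; simpa using hl
    · left; rw [hsplit]; exact mul_mem S.z_lin hl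
    · right; exact hl
    · right
      rw [show a⁻¹ * i = z * ((a * z)⁻¹ * i) by group]
      exact mul_mem S.z_lin hl
  -- the quotient
  let C₁ := C ⊓ M₁
  let N : Subgroup ↥C₁ := S.lin.subgroupOf C₁
  haveI : N.Normal := ⟨fun q hq g => S.conj_lin g.2.1 hq⟩
  let ā : ↥C₁ := ⟨a, haC, ha.2⟩
  have hcen : ∀ (p : ↥C₁), (QuotientGroup.mk p : ↥C₁ ⧸ N) * QuotientGroup.mk ā = QuotientGroup.mk ā * QuotientGroup.mk p := by
    intro p
    have hm : (p : G) * a * (p : G)⁻¹ ∈ A4 :=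
      ⟨S.conj_fixPart p.2.1 ha.1, M₁.mul_mem (M₁.mul_mem p.2.2 ha.2) (M₁.inv_mem p.2.2)⟩
    have hnz : (p : G) * a * (p : G)⁻¹ ∉ zpowers z := fun e => haz (by
      rw [show a = (p : G)⁻¹ * ((p : G) * a * (p : G)⁻¹) * (p : G)⁻¹⁻¹ by group, S.zp_conj (inv_mem p.2.1) e]
      exact e)
    refine mul_inv_eq_iff_eq_mul.1 ?_
    rw [← QuotientGroup.mk_mul, ← QuotientGroup.mk_inv, ← QuotientGroup.mk_mul, QuotientGroup.eq]
    show ((p : G) * a * (p : G)⁻¹)⁻¹ * a ∈ S.lin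
    rcases hA4mem _ hm with e | e | e | e
    · exact absurd (e ▸ one_mem _) hnz
    · exact absurd (e ▸ mem_zpowers z) hnz
    · rw [e, inv_mul_cancel]; exact one_mem _
    · rw [e, mul_inv_rev, S.z_inv, inv_mul_cancel_right]; exact S.z_lin
  have hinner : ∀ i : ↥C₁, (i : G) ∈ I → (QuotientGroup.mk i : ↥C₁ ⧸ N) = 1 ∨
      (QuotientGroup.mk i : ↥C₁ ⧸ N) = QuotientGroup.mk ā := fun i hi =>
    (hin i hi i.2.2).imp (fun h => (QuotientGroup.eq_one_iff i).2 h) fun h =>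
      (QuotientGroup.eq.2 (show ā⁻¹ * i ∈ N from h)).symm
  have hci : ∀ p i : ↥C₁, (i : G) ∈ I →
      (QuotientGroup.mk p : ↥C₁ ⧸ N) * QuotientGroup.mk i = QuotientGroup.mk i * QuotientGroup.mk p := fun p i hi => by
    rcases hinner i hi with e | e <;> rw [e]
    · rw [one_mul, mul_one]
    · exact hcen p
  letI : CommGroup (↥C₁ ⧸ N) :=
    { (inferInstance : Group (↥C₁ ⧸ N)) with
      mul_comm := fun x y => by
        obtain ⟨p, rfl⟩ := QuotientGroup.mk_surjective x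
        obtain ⟨q, rfl⟩ := QuotientGroup.mk_surjective y
        by_cases hp : (p : G) ∈ I
        · exact (hci q p hp).symm
        by_cases hq : (q : G) ∈ I
        · exact hci p q hq
        have h1 := hci p⁻¹ (p * q) (S.two p p.2.1 q q.2.1 hp hq)
        rw [QuotientGroup.mk_mul, QuotientGroup.mk_inv, inv_mul_cancel_left] at h1
        conv_rhs => rw [h1]
        rw [inv_mul_cancel_right] }
  obtain ⟨W, hWl, hWf⟩ := S.value (M := M₁) hL1 (QuotientGroup.mk' N)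
  refine ⟨M₁, W.ker.map M₁.subtype, fun l hl => ⟨⟨l, hL1 hl⟩, hWl ⟨l, hL1 hl⟩ hl, rfl⟩, ?_, ?_,
    fun g => (hmem₁ g).imp id fun h => ⟨f₁, hf₁, h⟩⟩
  · rintro g hg _ ⟨x, hx, rfl⟩
    exact ⟨⟨g, hg⟩ * x * ⟨g, hg⟩⁻¹, W.normal_ker.conj_mem x hx ⟨g, hg⟩, rfl⟩
  · rintro _ hxF ⟨x, hx, rfl⟩
    have hk := MonoidHom.mem_ker.1 hx
    rw [hWf x hxF] at hk
    have hxN : (⟨(x : G), S.memC hxF.1, x.2⟩ : ↥C₁) ∈ N := (QuotientGroup.eq_one_iff _).1 hk
    exact S.fix_lin hxF hxN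

set_option maxHeartbeats 1000000 in
/-- The only conjugate of the involution in its centraliser is itself. -/
theorem no_fusion (g : G) (hc : Commute (g * z * g⁻¹) z) : g * z * g⁻¹ = z := by
  classical
  obtain ⟨M₁, M₂, hL2, hnorm, hF2, hmem⟩ := S.exists_levels
  let P : G → Prop := fun g => g ∈ M₁ ∧ Commute (g * z * g⁻¹) z ∧ g * z * g⁻¹ ≠ z
  suffices h : ∀ g, ¬ P g by
    by_contra hne
    rcases hmem g with hg | ⟨f, hf, hgf⟩
    · exact h g ⟨hg, hc, hne⟩
    · have e : g * f * z * (g * f)⁻¹ = g * z * g⁻¹ := by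
        rw [show g * f * z * (g * f)⁻¹ = g * (f * z * f⁻¹) * g⁻¹ by group,
          S.zp_conj (S.memC hf.1) (mem_zpowers z)]
      exact h (g * f) ⟨hgf, by rwa [e], by rwa [e]⟩
  have hPinv : ∀ {g}, P g → P g⁻¹ := by
    rintro g ⟨hg, hcm, hne⟩
    refine ⟨inv_mem hg, ?_, fun e => hne ?_⟩
    · show g⁻¹ * z * g⁻¹⁻¹ * z = z * (g⁻¹ * z * g⁻¹⁻¹)
      calc g⁻¹ * z * g⁻¹⁻¹ * z = g⁻¹ * (z * (g * z * g⁻¹)) * g := by group
        _ = g⁻¹ * ((g * z * g⁻¹) * z) * g := by rw [hcm.eq]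
        _ = _ := by group
    · calc g * z * g⁻¹ = g * (g⁻¹ * z * g⁻¹⁻¹) * g⁻¹ := by rw [e]
        _ = z := by group
  -- inner elements centralise the fixed part
  have hlin : ∀ {g}, P g → g * z * g⁻¹ ∈ I → g * z * g⁻¹ ∈ S.lin := by
    rintro g ⟨hg, hcm, hne⟩ hI
    have hs2 : g * z * g⁻¹ ∈ M₂ := hnorm g hg z (hL2 S.z_lin)
    obtain ⟨f, hf, hl⟩ := S.lin_decomp hI
    have hfM : f ∈ M₂ := by
      rw [show f = (g * z * g⁻¹) * (f⁻¹ * (g * z * g⁻¹))⁻¹ by group]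
      exact mul_mem hs2 (inv_mem (hL2 hl))
    rw [show g * z * g⁻¹ = f * (f⁻¹ * (g * z * g⁻¹)) by group]
    exact mul_mem ((zpowers_le.2 S.z_lin) (hF2 f hf hfM)) hl
  have hmoveC : ∀ {g w : G}, Commute w (g * z * g⁻¹) → g⁻¹ * w * g ∈ centralizer ({z} : Set G) := fun {g w} hw => by
    refine mem_centralizer_singleton_iff.2 ?_
    calc g⁻¹ * w * g * z = g⁻¹ * (w * (g * z * g⁻¹)) * g := by group
      _ = g⁻¹ * ((g * z * g⁻¹) * w) * g := by rw [hw.eq]
      _ = _ := by group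
  have hroot : ∀ {g w : G}, Commute w (g * z * g⁻¹) → w * w = z → g⁻¹ * z * g ∈ I := fun {g w} hw hw2 => by
    have := S.sq_I (hmoveC hw)
    rwa [show g⁻¹ * w * g * (g⁻¹ * w * g) = g⁻¹ * (w * w) * g by group, hw2] at this
  -- no inner conjugate
  have ha : ∀ {g}, P g → g * z * g⁻¹ ∉ I := by
    intro g hP hI
    have hPi := hPinv hP
    have hsl := hlin hP hI
    obtain ⟨w, hw, hw2⟩ := S.exists_root
    have hscom : ∀ y ∈ S.fixPart, Commute y (g * z * g⁻¹) := fun y hy => mem_centralizer_iff.1 hsl.2 y hy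
    have hzI : g⁻¹ * z * g⁻¹⁻¹ ∈ I := by rw [inv_inv]; exact hroot (hscom w hw) hw2
    have hzl := hlin hPi hzI
    have hFg : ∀ y ∈ S.fixPart, g * y * g⁻¹ ∈ centralizer ({z} : Set G) := fun y hy => by
      have h1 : Commute y (g⁻¹ * z * g⁻¹⁻¹) := mem_centralizer_iff.1 hzl.2 y hy
      have h2 := hmoveC (g := g⁻¹) h1
      rwa [inv_inv] at h2
    have hyC : ∀ y ∈ S.fixPart, g⁻¹ * y * g ∈ centralizer ({z} : Set G) := fun y hy => hmoveC (hscom y hy)
    -- z is not in the conjugate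
    have hzn : ∀ y ∈ S.fixPart, g * y * g⁻¹ ≠ z := fun y hy e => by
      have hyM : y ∈ M₂ := by
        rw [show y = g⁻¹ * z * g⁻¹⁻¹ by rw [← e]; group]
        exact hnorm _ hPi.1 z (hL2 S.z_lin)
      rcases S.cases (hF2 y hy hyM) with h | h <;> subst h
      · exact S.z_ne (by rw [← e]; group)
      · exact hP.2.2 e
    -- the conjugate centralises the fixed part
    have hcomm : ∀ y ∈ S.fixPart, g * y * g⁻¹ ∈ centralizer (S.fixPart : Set G) := fun y hy =>
      mem_centralizer_iff.2 fun x hx => by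
        set u := x * (g * y * g⁻¹) * x⁻¹ * (g * y * g⁻¹)⁻¹ with hu
        have hu1 : u ∈ S.fixPart := by
          rw [show u = x * ((g * y * g⁻¹) * x⁻¹ * (g * y * g⁻¹)⁻¹) by rw [hu]; group]
          exact mul_mem hx (S.conj_fixPart (hFg y hy) (inv_mem hx))
        have hu2 : g⁻¹ * u * g ∈ S.fixPart := by
          rw [show g⁻¹ * u * g = (g⁻¹ * x * g) * y * (g⁻¹ * x * g)⁻¹ * y⁻¹ by rw [hu]; group]
          exact mul_mem (S.conj_fixPart (hyC x hx) hy) (inv_mem hy)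
        by_cases h1 : u = 1
        · exact mul_inv_eq_iff_eq_mul.1 (mul_inv_eq_one.1 (hu ▸ h1))
        exfalso
        by_cases h2 : u = z
        · exact hzn _ hu2 (by rw [h2]; group)
        obtain ⟨v, hv, huv⟩ : ∃ v ∈ S.fixPart, ¬ Commute u v := by
          by_contra h
          push Not at h
          rcases S.cases (S.fixPart_center hu1 h) with e | e
          exacts [h1 e, h2 e]
        have e3 : u * v * u⁻¹ * v⁻¹ = z := (S.cases (S.comm_mem hu1.1 hv.1)).resolve_left fun e =>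
          huv (mul_inv_eq_iff_eq_mul.1 (mul_inv_eq_one.1 e))
        exact hzn _ (mul_mem hu2 (S.conj_fixPart (hyC v hv) (inv_mem hu2))) (by rw [← e3]; group)
    obtain ⟨p, hp, q, hq, hpq⟩ := S.exists_pair
    obtain ⟨r, hr, hrz, hrI⟩ : ∃ r ∈ S.fixPart, r ∉ zpowers z ∧ g * r * g⁻¹ ∈ I := by
      by_cases h1 : g * p * g⁻¹ ∈ I
      · exact ⟨p, hp, S.not_zp (S.comm_z (S.memC hq.1)) hpq, h1⟩
      by_cases h2 : g * q * g⁻¹ ∈ I
      · exact ⟨q, hq, S.not_zp (S.comm_z (S.memC hp.1)) fun e => hpq e.symm, h2⟩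
      refine ⟨p * q, mul_mem hp hq, S.not_zp (S.comm_z (S.memC hq.1)) fun e => hpq ?_, ?_⟩
      · have := e.mul_left ((Commute.refl q).inv_left)
        rwa [mul_inv_cancel_right] at this
      · rw [show g * (p * q) * g⁻¹ = (g * p * g⁻¹) * (g * q * g⁻¹) by group]
        exact S.two _ (hFg p hp) _ (hFg q hq) h1 h2
    refine hrz (hF2 r hr ?_)
    rw [show r = g⁻¹ * (g * r * g⁻¹) * g⁻¹⁻¹ by group]
    exact hnorm _ hPi.1 _ (hL2 ⟨hrI, hcomm r hr⟩)
  intro g hP
  have hPi := hPinv hP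
  obtain ⟨hg, hcm, hne⟩ := hP
  set s := g * z * g⁻¹ with hs
  clear_value s
  have hsC : s ∈ centralizer ({z} : Set G) := mem_centralizer_singleton_iff.2 hcm.eq
  have hs2 : s * s = 1 := by rw [hs, show g * z * g⁻¹ * (g * z * g⁻¹) = g * (z * z) * g⁻¹ by group, S.z_sq]; group
  have hgs : g⁻¹ * s * g = z := by rw [hs]; group
  have hmoveS : ∀ {w : G}, Commute w s → g⁻¹ * w * g ∈ centralizer ({z} : Set G) := fun hw =>
    hmoveC (g := g) (by rwa [← hs])
  refine S.shift_false hsC hs2 (fun w _ hw e => ha hPi ?_) (fun x => g⁻¹ * x * g ∈ I) ?_ ?_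
  · have := hroot (g := g) (by rwa [← hs]) e
    rwa [inv_inv]
  · intro p hp hxs hx1 hI
    set x := s * p⁻¹ * s * p with hx
    -- the shift is a conjugate
    have et : s * x = (p⁻¹ * g) * z * (p⁻¹ * g)⁻¹ := by
      rw [show (p⁻¹ * g) * z * (p⁻¹ * g)⁻¹ = p⁻¹ * (g * z * g⁻¹) * p by group, ← hs, hx,
        ← mul_assoc, ← mul_assoc, ← mul_assoc, hs2, one_mul]
    have hk : g⁻¹ * (s * x) * g = (g⁻¹ * p⁻¹ * g) * z * (g⁻¹ * p⁻¹ * g)⁻¹ := by rw [et]; group
    have hts : Commute (s * x) s := (Commute.refl s).mul_left hxs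
    have hkC : g⁻¹ * (s * x) * g ∈ centralizer ({z} : Set G) := hmoveS hts
    have hkI : g⁻¹ * (s * x) * g ∈ I := by
      rw [show g⁻¹ * (s * x) * g = (g⁻¹ * s * g) * (g⁻¹ * x * g) by group, hgs]
      exact mul_mem (S.le S.mem) hI
    have hcm' : Commute ((g⁻¹ * p⁻¹ * g) * z * (g⁻¹ * p⁻¹ * g)⁻¹) z := hk ▸ S.comm_z hkC
    by_cases hkz : (g⁻¹ * p⁻¹ * g) * z * (g⁻¹ * p⁻¹ * g)⁻¹ = z
    · rw [← hk] at hkz
      have : s * x = s := by
        calc s * x = g * (g⁻¹ * (s * x) * g) * g⁻¹ := by group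
          _ = _ := by rw [hkz, hs]
      exact hx1 (mul_eq_left.1 this)
    · rcases hmem (g⁻¹ * p⁻¹ * g) with h | ⟨f, hf, h⟩
      · exact ha ⟨h, hcm', hkz⟩ (hk ▸ hkI)
      · have e : (g⁻¹ * p⁻¹ * g * f) * z * (g⁻¹ * p⁻¹ * g * f)⁻¹ = (g⁻¹ * p⁻¹ * g) * z * (g⁻¹ * p⁻¹ * g)⁻¹ := by
          rw [show (g⁻¹ * p⁻¹ * g * f) * z * (g⁻¹ * p⁻¹ * g * f)⁻¹ =
            (g⁻¹ * p⁻¹ * g) * (f * z * f⁻¹) * (g⁻¹ * p⁻¹ * g)⁻¹ by group, S.zp_conj (S.memC hf.1) (mem_zpowers z)]
        exact ha ⟨h, e ▸ hcm', e ▸ hkz⟩ (e ▸ hk ▸ hkI)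
  · intro x _ hx y _ hy h1 h2
    show g⁻¹ * (x * y) * g ∈ I
    rw [show g⁻¹ * (x * y) * g = (g⁻¹ * x * g) * (g⁻¹ * y * g) by group]
    exact S.two _ (hmoveS hx) _ (hmoveS hy) h1 h2

end Cfsg.Lib.USixType.Ext.FixSetting
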