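import Mathlib

/-!
# A transfer that is one value
-/

set_option autoImplicit false
set_option Elab.async false
set_option linter.style.haveILetI false

namespace Cfsg.Lib.USixType.Ext

open Subgroup MulAction

universe u w

variable {G : Type u} [Group G]

/-- A product invariant under a group of permutations reduces to one fixed point. -/
theorem prod_eq_of_orbits {Q : Type*} [Group Q] {X : Type*} [Fintype X] [MulAction Q X] {A : Type*} [CommGroup A]
    (f : X → A) (hf : ∀ (q : Q) x, f (q • x) = f x) (x₀ : X) (h₀ : ∀ q : Q, q • x₀ = x₀)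
    (h : ∀ x, x ≠ x₀ → f x ^ Nat.card (orbit Q x) = 1) : ∏ x, f x = f x₀ := by
  classical
  letI : Fintype (orbitRel.Quotient Q X) := Fintype.ofFinite _
  rw [← (selfEquivSigmaOrbits Q X).symm.prod_comp f, Fintype.prod_sigma,
    Finset.prod_eq_single (Quotient.mk'' x₀ : orbitRel.Quotient Q X)]
  · have hx : ∀ y : orbit Q (Quotient.out (Quotient.mk'' x₀ : orbitRel.Quotient Q X)), (y : X) = x₀ := fun y => by
      have h1 : (Quotient.out (Quotient.mk'' x₀ : orbitRel.Quotient Q X)) ∈ orbit Q x₀ :=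
        Quotient.mk_out (s := orbitRel Q X) x₀
      obtain ⟨q, hq⟩ := h1
      obtain ⟨q', hq'⟩ := y.2
      rw [← hq', ← hq]
      show q' • q • x₀ = x₀
      rw [h₀, h₀]
    haveI : Subsingleton (orbit Q (Quotient.out (Quotient.mk'' x₀ : orbitRel.Quotient Q X))) :=
      ⟨fun a b => Subtype.ext ((hx a).trans (hx b).symm)⟩
    rw [Fintype.prod_subsingleton _ ⟨_, mem_orbit_self _⟩]
    exact congrArg f (hx ⟨_, mem_orbit_self _⟩)
  · intro ω _ hω
    have hne : ω.out ≠ x₀ := fun e => hω (by rw [← e, Quotient.out_eq'])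
    rw [Finset.prod_congr rfl (g := fun _ => f ω.out) (fun y _ => by
      obtain ⟨q, hq⟩ := y.2
      show f (y : X) = _
      rw [← hq]
      exact hf q _), Finset.prod_const, Finset.card_univ, ← Nat.card_eq_fintype_card]
    exact h _ hne
  · exact fun h => absurd (Finset.mem_univ _) h

set_option maxHeartbeats 1000000 in
/-- The transfer of an element of the centraliser is its value. -/
theorem transfer_eq_value [Finite G] {z x : G} {C : Subgroup G} (hC : C = centralizer ({z} : Set G)) {A : Type w}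
    [CommGroup A] (lam : ↥C →* A) (Q : Subgroup G) (hQC : Q ≤ C) (hp : IsPGroup 2 ↥Q) (hQx : ∀ q ∈ Q, Commute q x)
    (hxC : x ∈ C) (hz2 : z * z = 1) (hx2 : x * x = 1 ∨ x * x = z)
    (hbig : ∀ Q₁ ≤ Q, Nat.card ↥Q ≤ 2 * Nat.card ↥Q₁ → ∃ a ∈ Q₁, ∃ b ∈ Q₁, a * b * a⁻¹ * b⁻¹ = z)
    (hcent : ∀ g : G, Commute (g * z * g⁻¹) x → (∀ q ∈ Q, Commute (g * z * g⁻¹) q) →
      g * z * g⁻¹ = z ∨ g * z * g⁻¹ = x ∨ g * z * g⁻¹ = x * z) :
    MonoidHom.transfer lam x = lam ⟨x, hxC⟩ := by
  classical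
  have hCz : ∀ y : G, y ∈ C ↔ y * z = z * y := fun y => by rw [hC, mem_centralizer_singleton_iff]
  letI : Fintype (Quotient (orbitRel (zpowers x) (G ⧸ C))) := Fintype.ofFinite _
  rw [MonoidHom.transfer_eq_prod_quotient_orbitRel_zpowers_quot]
  set m : G ⧸ C → ℕ := fun p => Function.minimalPeriod (x • ·) p with hm
  set val : G ⧸ C → A := fun p => lam ⟨p.out⁻¹ * x ^ m p * p.out,
    QuotientGroup.out_conj_pow_minimalPeriod_mem C x p⟩ with hval
  -- moving the representative
  have hrep : ∀ (g : G) (n : ℕ) (h : g⁻¹ * x ^ n * g ∈ C) (c : ↥C) (h' : (g * c)⁻¹ * x ^ n * (g * c) ∈ C),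
      lam ⟨(g * c)⁻¹ * x ^ n * (g * c), h'⟩ = lam ⟨g⁻¹ * x ^ n * g, h⟩ := fun g n h c h' => by
    rw [show (⟨(g * c)⁻¹ * x ^ n * (g * c), h'⟩ : ↥C) = c⁻¹ * ⟨g⁻¹ * x ^ n * g, h⟩ * c from Subtype.ext (by
      show _ = (c : G)⁻¹ * (g⁻¹ * x ^ n * g) * c
      group), map_mul, map_mul, map_inv, mul_comm, mul_inv_cancel_left]
  have hmove : ∀ (y : G), Commute y x → ∀ p, m (y • p) = m p ∧ val (y • p) = val p := by
    intro y hy p
    have hyn : ∀ (n : ℕ) (q : G ⧸ C), x ^ n • y • q = y • x ^ n • q := fun n q => by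
      rw [smul_smul, smul_smul, (hy.pow_right n).eq]
    have hmy : m (y • p) = m p := by
      refine Nat.dvd_antisymm (pow_smul_eq_iff_minimalPeriod_dvd.1 ?_) (pow_smul_eq_iff_minimalPeriod_dvd.1 ?_)
      · rw [hyn, pow_smul_eq_iff_minimalPeriod_dvd.2 (dvd_refl _)]
      · have := pow_smul_eq_iff_minimalPeriod_dvd.2 (dvd_refl (m (y • p)))
        rw [hyn] at this
        exact smul_left_cancel y this
    refine ⟨hmy, ?_⟩
    obtain ⟨k, hk⟩ : ∃ k : ↥C, (y • p).out = y * p.out * k := by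
      have e : ((y • p).out : G ⧸ C) = ((y * p.out : G) : G ⧸ C) := by
        rw [QuotientGroup.out_eq', ← smul_eq_mul, ← Quotient.coe_smul_out]
      exact ⟨⟨_, QuotientGroup.eq.1 e.symm⟩, (mul_inv_cancel_left _ _).symm⟩
    have e : (y * p.out)⁻¹ * x ^ m p * (y * p.out) = p.out⁻¹ * x ^ m p * p.out := by
      rw [show (y * p.out)⁻¹ * x ^ m p * (y * p.out) = p.out⁻¹ * (y⁻¹ * (x ^ m p * y)) * p.out by group,
        ← (hy.pow_right (m p)).eq, inv_mul_cancel_left]
    have hmem : (y * p.out)⁻¹ * x ^ m p * (y * p.out) ∈ C := e ▸ QuotientGroup.out_conj_pow_minimalPeriod_mem C x p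
    have hmem' : (y * p.out * k)⁻¹ * x ^ m p * (y * p.out * k) ∈ C := by
      rw [← hk, ← hmy]; exact QuotientGroup.out_conj_pow_minimalPeriod_mem C x _
    calc val (y • p) = lam ⟨(y * p.out * k)⁻¹ * x ^ m p * (y * p.out * k), hmem'⟩ := by
          refine congrArg lam (Subtype.ext ?_)
          show (y • p).out⁻¹ * x ^ m (y • p) * (y • p).out = _
          rw [hmy, hk]
      _ = lam ⟨_, hmem⟩ := hrep _ _ hmem k hmem'
      _ = val p := congrArg lam (Subtype.ext e)
  letI : MulAction ↥Q (Quotient (orbitRel (zpowers x) (G ⧸ C))) :=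
    { smul := fun q => Quotient.map' (fun p : G ⧸ C => (q : G) • p) (by
        rintro a b ⟨⟨_, n, rfl⟩, rfl⟩
        refine ⟨⟨x ^ n, n, rfl⟩, ?_⟩
        show x ^ n • (q : G) • b = (q : G) • x ^ n • b
        rw [smul_smul, smul_smul, ((hQx q q.2).zpow_right n).eq])
      one_smul := fun ω => by
        induction ω using Quotient.inductionOn' with
        | h p => exact congrArg Quotient.mk'' (one_smul G p)
      mul_smul := fun a b ω => by
        induction ω using Quotient.inductionOn' with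
        | h p => exact congrArg Quotient.mk'' (mul_smul (a : G) b p) }
  have hout : ∀ p : G ⧸ C, val (Quotient.mk'' p : Quotient (orbitRel (zpowers x) (G ⧸ C))).out = val p := fun p => by
    obtain ⟨⟨_, n, rfl⟩, e⟩ := Quotient.mk_out (s := orbitRel (zpowers x) (G ⧸ C)) p
    rw [← e]
    exact (hmove (x ^ n) ((Commute.refl x).zpow_left n) p).2
  -- values
  have hz : ∀ (g : G), Nat.card ↥Q ≤ 2 * Nat.card ↥(Q ⊓ C.map (MulAut.conj g).toMonoidHom) →
      ∀ h : g⁻¹ * z * g ∈ C, lam ⟨g⁻¹ * z * g, h⟩ = 1 := by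
    intro g hcard h
    obtain ⟨a, ha, b, hb, hab⟩ := hbig _ inf_le_left hcard
    have hg : ∀ {y : G}, y ∈ C.map (MulAut.conj g).toMonoidHom → g⁻¹ * y * g ∈ C := by
      rintro _ ⟨y, hy, rfl⟩
      show g⁻¹ * (g * y * g⁻¹) * g ∈ C
      rwa [show g⁻¹ * (g * y * g⁻¹) * g = y by group]
    let a' : ↥C := ⟨_, hg ha.2⟩
    let b' : ↥C := ⟨_, hg hb.2⟩
    rw [show (⟨g⁻¹ * z * g, h⟩ : ↥C) = a' * b' * a'⁻¹ * b'⁻¹ from Subtype.ext (by
      show g⁻¹ * z * g = (g⁻¹ * a * g) * (g⁻¹ * b * g) * (g⁻¹ * a * g)⁻¹ * (g⁻¹ * b * g)⁻¹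
      rw [← hab]; group), map_mul, map_mul, map_mul, map_inv, map_inv, mul_comm (lam a'), mul_assoc (lam b'),
      mul_inv_cancel, mul_one, mul_inv_cancel]
  refine (prod_eq_of_orbits (Q := ↥Q) _ ?_ (Quotient.mk'' ((1 : G) : G ⧸ C)) ?_ ?_).trans ?_
  · intro q ω
    induction ω using Quotient.inductionOn' with
    | h p =>
      show val (Quotient.mk'' ((q : G) • p) : Quotient (orbitRel (zpowers x) (G ⧸ C))).out =
        val (Quotient.mk'' p : Quotient (orbitRel (zpowers x) (G ⧸ C))).out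
      rw [hout, hout, (hmove _ (hQx q q.2) p).2]
  · intro q
    refine congrArg Quotient.mk'' ?_
    show (((q : G) * 1 : G) : G ⧸ C) = _
    rw [QuotientGroup.eq, mul_one, mul_one]
    exact inv_mem (hQC q.2)
  · intro ω hω
    induction ω using Quotient.inductionOn' with
    | h p =>
    show val (Quotient.mk'' p : Quotient (orbitRel (zpowers x) (G ⧸ C))).out ^ _ = 1
    rw [hout]
    set k := Nat.card (orbit ↥Q (Quotient.mk'' p : Quotient (orbitRel (zpowers x) (G ⧸ C))))
    obtain ⟨n, hn⟩ := hp.card_orbit (Quotient.mk'' p : Quotient (orbitRel (zpowers x) (G ⧸ C)))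
    set g := p.out with hg
    have hgp : (g : G ⧸ C) = p := QuotientGroup.out_eq' p
    have hsmul : ∀ y : G, y • p = p → g⁻¹ * y * g ∈ C := fun y hy => by
      have e2 : ((y * g : G) : G ⧸ C) = (g : G ⧸ C) := by
        rw [← smul_eq_mul, ← MulAction.Quotient.smul_coe, hgp]
        exact hy
      rw [show g⁻¹ * y * g = ((y * g)⁻¹ * g)⁻¹ by group]
      exact inv_mem (QuotientGroup.eq.1 e2)
    -- few points give a large stabiliser
    have hfew : Nat.card (orbit ↥Q p) ≤ 2 → Nat.card ↥Q ≤ 2 * Nat.card ↥(Q ⊓ C.map (MulAut.conj g).toMonoidHom) := by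
      intro h2
      letI : Fintype ↥Q := Fintype.ofFinite _
      letI : Fintype (orbit ↥Q p) := Fintype.ofFinite _
      have e := card_orbit_mul_card_stabilizer_eq_card_group ↥Q p
      rw [← Nat.card_eq_fintype_card, ← Nat.card_eq_fintype_card, ← Nat.card_eq_fintype_card] at e
      rw [← e]
      refine Nat.mul_le_mul h2 ?_
      rw [← Subgroup.card_map_of_injective (K := stabilizer ↥Q p) Q.subtype_injective]
      refine Subgroup.card_le_of_le fun y hy => ?_
      obtain ⟨q, hq, rfl⟩ := hy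
      exact Subgroup.mem_inf.2 ⟨q.2, g⁻¹ * q * g, hsmul q (mem_stabilizer_iff.1 hq),
        by show g * (g⁻¹ * (q : G) * g) * g⁻¹ = q; group⟩
    have hpow : ∀ (e : ℕ) (h : g⁻¹ * x ^ m p * g ∈ C) (h' : g⁻¹ * x ^ (m p * e) * g ∈ C),
        val p ^ e = lam ⟨g⁻¹ * x ^ (m p * e) * g, h'⟩ := fun e h h' => by
      show lam _ ^ e = _
      rw [← map_pow]
      refine congrArg lam (Subtype.ext ?_)
      rw [SubgroupClass.coe_pow]
      show (g⁻¹ * x ^ m p * g) ^ e = g⁻¹ * x ^ (m p * e) * g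
      rw [pow_mul]
      simpa using conj_pow (a := g⁻¹) (b := x ^ m p) (i := e)
    have hmem : g⁻¹ * x ^ m p * g ∈ C := QuotientGroup.out_conj_pow_minimalPeriod_mem C x p
    have hx4 : x ^ 4 = 1 := by
      rw [show 4 = 2 * 2 from rfl, pow_mul, pow_two x]
      rcases hx2 with e | e <;> rw [e]
      · exact one_pow _
      · rw [pow_two, hz2]
    have hpow' : ∀ e, m p * e = 4 → val p ^ e = 1 := fun e he => by
      rw [hpow e hmem (by rw [he, hx4, mul_one, inv_mul_cancel]; exact one_mem C)]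
      rw [show (⟨g⁻¹ * x ^ (m p * e) * g, _⟩ : ↥C) = 1 from Subtype.ext (show g⁻¹ * x ^ (m p * e) * g = 1 by rw [he, hx4, mul_one, inv_mul_cancel]),
        map_one]
    have hsq : ∀ e, m p * e = 2 → Nat.card (orbit ↥Q p) ≤ 2 → val p ^ e = 1 := fun e he h2 => by
      have hm2 : g⁻¹ * x ^ (m p * e) * g ∈ C :=
        hsmul _ (pow_smul_eq_iff_minimalPeriod_dvd.2 (Dvd.intro e rfl))
      rw [hpow e hmem hm2]
      rcases hx2 with h | h
      · rw [show (⟨g⁻¹ * x ^ (m p * e) * g, hm2⟩ : ↥C) = 1 from Subtype.ext (show g⁻¹ * x ^ (m p * e) * g = 1 by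
          rw [he, pow_two, h, mul_one, inv_mul_cancel]), map_one]
      · have hm3 : g⁻¹ * z * g ∈ C := by rwa [he, pow_two, h] at hm2
        rw [show (⟨g⁻¹ * x ^ (m p * e) * g, hm2⟩ : ↥C) = ⟨g⁻¹ * z * g, hm3⟩ from
          Subtype.ext (show g⁻¹ * x ^ (m p * e) * g = g⁻¹ * z * g by rw [he, pow_two, h])]
        exact hz g (hfew h2) hm3
    have hmd : m p ∣ 4 := pow_smul_eq_iff_minimalPeriod_dvd.1 (by rw [hx4, one_smul])
    have hm124 : m p = 1 ∨ m p = 2 ∨ m p = 4 := by
      have := Nat.le_of_dvd (by norm_num) hmd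
      interval_cases m p <;> revert hmd <;> decide
    rcases hm124 with h1 | h1 | h1
    · -- fixed by x
      have hxp : x • p = p := (Function.minimalPeriod_eq_one_iff_isFixedPt (f := (x • ·)) (x := p)).1 h1
      have hinj : Nat.card (orbit ↥Q p) ≤ k := by
        refine Nat.card_le_card_of_injective (fun r => ⟨Quotient.mk'' r.1, by
          obtain ⟨q, hq⟩ := r.2
          exact ⟨q, congrArg Quotient.mk'' hq⟩⟩) fun r r' e => ?_
        obtain ⟨⟨_, j, rfl⟩, hj⟩ := Quotient.exact' (congrArg Subtype.val e)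
        refine Subtype.ext ?_
        rw [← hj]
        obtain ⟨q, hq⟩ := r'.2
        have hfix : x • r'.1 = r'.1 := by
          rw [← hq]
          show x • (q : G) • p = (q : G) • p
          rw [smul_smul, ← (hQx q q.2).eq, ← smul_smul, hxp]
        exact mem_stabilizer_iff.1 (zpow_mem (mem_stabilizer_iff.2 hfix) j)
      match n, hn with
      | 0, hn =>
        rw [show k = 1 from hn, pow_one]
        rw [show k = 1 from hn] at hinj
        haveI : Subsingleton (orbit ↥Q p) := Finite.card_le_one_iff_subsingleton.1 hinj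
        have hfix : ∀ y : G, y • p = p → Commute (g * z * g⁻¹) y := fun y hy => by
          have e : ((y * g : G) : G ⧸ C) = (g : G ⧸ C) := by
            rw [← smul_eq_mul, ← MulAction.Quotient.smul_coe, hgp, hy]
          have := (hCz _).1 (QuotientGroup.eq.1 e)
          show g * z * g⁻¹ * y = y * (g * z * g⁻¹)
          have e2 : (y * g)⁻¹ * g * z = z * ((y * g)⁻¹ * g) := this
          calc g * z * g⁻¹ * y = y * g * ((y * g)⁻¹ * g * z) * g⁻¹ * y := by group
            _ = y * g * (z * ((y * g)⁻¹ * g)) * g⁻¹ * y := by rw [e2]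
            _ = _ := by group
        have h3 := hcent g (hfix x hxp) fun q hq => hfix q (congrArg Subtype.val
          (Subsingleton.elim (⟨_, ⟨⟨q, hq⟩, rfl⟩⟩ : orbit ↥Q p) ⟨p, mem_orbit_self p⟩))
        have hQtop : Nat.card ↥Q ≤ 2 * Nat.card ↥(Q ⊓ C.map (MulAut.conj (1 : G)).toMonoidHom) := by
          rw [show Q ⊓ C.map (MulAut.conj (1 : G)).toMonoidHom = Q from inf_of_le_left fun q hq =>
            ⟨q, hQC hq, by simp⟩]
          omega
        have hone := hz 1 hQtop
        simp only [inv_one, one_mul, mul_one] at hone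
        have hzC : z ∈ C := (hCz z).2 rfl
        rcases h3 with e | e | e
        · refine absurd ?_ hω
          refine congrArg Quotient.mk'' ?_
          rw [← hgp, QuotientGroup.eq, mul_one]
          exact inv_mem ((hCz g).2 (mul_inv_eq_iff_eq_mul.1 e))
        · show lam _ = 1
          rw [show (⟨p.out⁻¹ * x ^ m p * p.out, hmem⟩ : ↥C) = ⟨z, hzC⟩ from Subtype.ext (by
            show g⁻¹ * x ^ m p * g = z
            rw [h1, pow_one, ← e]; group)]
          exact hone hzC
        · show lam _ = 1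
          have hxz : g⁻¹ * z * g ∈ C := by
            have hx' : g⁻¹ * x * g ∈ C := by
              have := hmem
              rwa [h1, pow_one] at this
            rw [show g⁻¹ * z * g = (g⁻¹ * x * g)⁻¹ * (g⁻¹ * (x * z) * g) by group, ← e,
              show g⁻¹ * (g * z * g⁻¹) * g = z by group]
            exact mul_mem (inv_mem hx') hzC
          have hz1 := hz g (hfew (hinj.trans (by norm_num))) hxz
          rw [show (⟨p.out⁻¹ * x ^ m p * p.out, hmem⟩ : ↥C) = ⟨z, hzC⟩ * ⟨g⁻¹ * z * g, hxz⟩⁻¹ from Subtype.ext (by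
            show g⁻¹ * x ^ m p * g = z * (g⁻¹ * z * g)⁻¹
            rw [h1, pow_one]
            calc g⁻¹ * x * g = g⁻¹ * (x * z) * g * (g⁻¹ * z * g)⁻¹ := by group
              _ = _ := by rw [← e]; group), map_mul, map_inv, hz1, hone hzC, inv_one, mul_one]
      | 1, hn =>
        rw [show k = 2 from hn]
        rw [show k = 2 from hn] at hinj
        exact hsq 2 (by rw [h1]) hinj
      | n + 2, hn =>
        rw [show k = 4 * 2 ^ n from hn.trans (by ring), pow_mul, hpow' 4 (by rw [h1]), one_pow]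
    · match n, hn with
      | 0, hn =>
        rw [show k = 1 from hn]
        refine hsq 1 (by rw [h1]) ?_
        have hk : Nat.card (orbit ↥Q (Quotient.mk'' p : Quotient (orbitRel (zpowers x) (G ⧸ C)))) = 1 := hn
        haveI : Subsingleton (orbit ↥Q (Quotient.mk'' p : Quotient (orbitRel (zpowers x) (G ⧸ C)))) :=
          Finite.card_le_one_iff_subsingleton.1 hk.le
        have hsub : orbit ↥Q p ⊆ {p, x • p} := by
          rintro _ ⟨q, rfl⟩
          have e := congrArg Subtype.val (Subsingleton.elim (⟨_, ⟨q, rfl⟩⟩ : orbit ↥Q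
            (Quotient.mk'' p : Quotient (orbitRel (zpowers x) (G ⧸ C)))) ⟨_, mem_orbit_self _⟩)
          obtain ⟨⟨_, j, rfl⟩, hj⟩ := Quotient.exact' (s₁ := orbitRel (zpowers x) (G ⧸ C))
            (show Quotient.mk'' ((q : G) • p) = Quotient.mk'' p from e)
          show q • p = p ∨ q • p = x • p
          have hj' : x ^ j • p = q • p := hj
          rw [← hj']
          have h2' : x ^ (2 : ℤ) • p = p := by
            rw [show (2 : ℤ) = ((2 : ℕ) : ℤ) from rfl, zpow_natCast, ← h1]
            exact pow_smul_eq_iff_minimalPeriod_dvd.2 (dvd_refl _)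
          have heven : ∀ r : ℤ, x ^ (2 * r) • p = p := fun r => by
            rw [zpow_mul]
            exact mem_stabilizer_iff.1 (zpow_mem (mem_stabilizer_iff.2 h2') r)
          rcases Int.even_or_odd j with ⟨r, rfl⟩ | ⟨r, rfl⟩
          · left; rw [← two_mul]; exact heven r
          · right; rw [add_comm, zpow_add, zpow_one, mul_smul, heven]
        refine (Nat.card_mono (Set.toFinite _) hsub).trans ?_
        rw [Nat.card_coe_set_eq]
        exact (Set.ncard_insert_le _ _).trans (by rw [Set.ncard_singleton])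
      | n + 1, hn =>
        rw [show k = 2 * 2 ^ n from hn.trans (by ring), pow_mul, hpow' 2 (by rw [h1]), one_pow]
    · rw [← one_pow k]
      congr 1
      rw [← pow_one (val p)]
      exact hpow' 1 (by rw [h1])
  · show val (Quotient.mk'' ((1 : G) : G ⧸ C) : Quotient (orbitRel (zpowers x) (G ⧸ C))).out = _
    rw [hout]
    obtain ⟨c, hc⟩ : ∃ c : ↥C, ((1 : G) : G ⧸ C).out = c :=
      ⟨⟨_, by
        have := QuotientGroup.eq.1 (QuotientGroup.out_eq' ((1 : G) : G ⧸ C)).symm
        rwa [inv_one, one_mul] at this⟩, rfl⟩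
    have h1 : m ((1 : G) : G ⧸ C) = 1 := by
      refine (Function.minimalPeriod_eq_one_iff_isFixedPt (f := (x • ·)) (x := ((1 : G) : G ⧸ C))).2 ?_
      show ((x * 1 : G) : G ⧸ C) = _
      rw [QuotientGroup.eq, mul_one, mul_one]
      exact inv_mem hxC
    show lam _ = _
    rw [show (⟨_, QuotientGroup.out_conj_pow_minimalPeriod_mem C x ((1 : G) : G ⧸ C)⟩ : ↥C) = c⁻¹ * ⟨x, hxC⟩ * c from
      Subtype.ext (by
        show _⁻¹ * x ^ m ((1 : G) : G ⧸ C) * _ = (c : G)⁻¹ * x * c
        rw [h1, pow_one, hc]), map_mul, map_mul, map_inv, mul_comm, mul_inv_cancel_left]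

end Cfsg.Lib.USixType.Ext
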