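import Cfsg.Agent.USixType.Ext.Fixed.Main
import Cfsg.Agent.USixType.Lin.Main

/-!
# The fixed-vector case above the automorphism group
-/

set_option autoImplicit false
set_option Elab.async false
set_option maxRecDepth 100000
set_option linter.style.haveILetI false

namespace Cfsg.Lib.USixType

open Subgroup

universe u v

theorem conj_injective_of_iso {P : Type v} [Group P] (e : ↥U ≃* P) :
    Function.Injective (MulAut.conj : P →* MulAut P) := by
  refine (injective_iff_map_eq_one _).2 fun p hp => ?_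
  have hz : e.symm p ∈ Subgroup.center ↥U := Subgroup.mem_center_iff.2 fun g => by
    have := congrArg (fun a : MulAut P => a (e g)) hp
    simp only [MulAut.conj_apply, MulAut.one_apply] at this
    apply e.injective
    rw [map_mul, map_mul, MulEquiv.apply_symm_apply]
    exact (mul_inv_eq_iff_eq_mul.1 this).symm
  haveI := simple_U
  rcases Subgroup.Normal.eq_bot_or_eq_top (inferInstance : (Subgroup.center ↥U).Normal) with h | h
  · rw [h, Subgroup.mem_bot] at hz
    simpa using congrArg e hz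
  · exfalso
    have hc := Subgroup.mem_center_iff.1 (h ▸ Subgroup.mem_top (⟨tvP 0, tvP_mem 0⟩ : ↥U)) ⟨tvP 1, tvP_mem 1⟩
    have h2 := (USixType.commute_iff 1 0).1 (congrArg Subtype.val hc)
    revert h2
    decide +kernel

/-- No fusion above the automorphism group. -/
theorem Ext.fixedGoal : Ext.FixedGoal.{u, v} := by
  intro G _ _ z J P _ S hn g hg
  classical
  obtain ⟨e⟩ := S.iso
  have hconj := conj_injective_of_iso e
  set C := centralizer ({z} : Set G) with hC
  set R := (MulAut.conj : P →* MulAut P).range with hR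
  have hcr : Nat.card ↥R = 25920 := by
    rw [← Nat.card_congr (MonoidHom.ofInjective hconj).toEquiv, ← Nat.card_congr e.toEquiv, card_U]
  have hidx : R.index = 2 := by
    have h1 := R.card_mul_index
    rw [hcr, S.autCard] at h1
    omega
  have hNm : ∀ h : ↥C, (h : G) ∈ S.innerPart ↔ S.f h ∈ R := fun h =>
    ⟨by rintro ⟨k, hk, hke⟩; rwa [← Subtype.ext hke], fun hh => ⟨h, hh, rfl⟩⟩
  have hIC : S.innerPart ≤ C := by rintro _ ⟨h, -, rfl⟩; exact h.2
  let cr : P ≃* ↥R := MonoidHom.ofInjective hconj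
  let f : ↥S.innerPart →* ↥U :=
    { toFun := fun h => e.symm (cr.symm ⟨S.f ⟨h, hIC h.2⟩, (hNm ⟨h, hIC h.2⟩).1 h.2⟩)
      map_one' := by
        rw [← e.symm.map_one, ← cr.symm.map_one]
        exact congrArg (fun x => e.symm (cr.symm x)) (Subtype.ext (map_one S.f))
      map_mul' := fun a b => by
        rw [← e.symm.map_mul, ← cr.symm.map_mul]
        exact congrArg (fun x => e.symm (cr.symm x)) (Subtype.ext (map_mul S.f ⟨a, hIC a.2⟩ ⟨b, hIC b.2⟩)) }
  have hfix : ∃ q ∈ J, q ∉ zpowers z ∧ ∀ h ∈ S.innerPart, h * q * h⁻¹ * q⁻¹ ∈ zpowers z := by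
    simp only [Ext.OuterSetting.NoFix, not_forall] at hn
    obtain ⟨q, hq, hh, hz⟩ := hn
    exact ⟨q, hq, hz, hh⟩
  have F : Ext.FixSetting z J S.innerPart :=
    { order := S.order
      card := S.card
      extra := S.extra
      mem := S.mem
      le := fun q hq => (hNm ⟨q, S.le hq⟩).2 (by rw [(S.ker ⟨q, S.le hq⟩).2 hq]; exact one_mem _)
      inC := hIC
      norm := S.norm
      normI := fun h hh => mem_normalizer_iff.2 fun q => by
        haveI : R.Normal := Subgroup.normal_of_index_eq_two hidx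
        constructor
        · rintro ⟨p, hp, rfl⟩
          refine ⟨⟨h, hh⟩ * p * ⟨h, hh⟩⁻¹, ?_, rfl⟩
          show S.f _ ∈ R
          rw [map_mul, map_mul, map_inv]
          exact Subgroup.Normal.conj_mem (inferInstance : R.Normal) (S.f p) hp (S.f ⟨h, hh⟩)
        · rintro ⟨p, hp, hpq⟩
          refine ⟨(⟨h, hh⟩ : ↥C)⁻¹ * p * ⟨h, hh⟩, ?_, ?_⟩
          · show S.f _ ∈ R
            rw [map_mul, map_mul, map_inv]
            have := Subgroup.Normal.conj_mem (inferInstance : R.Normal) _ hp (S.f ⟨h, hh⟩)⁻¹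
            rwa [inv_inv] at this
          · show h⁻¹ * (p : G) * h = q
            rw [show (p : G) = h * q * h⁻¹ from hpq]
            group
      self := S.self
      faithful := fun h hh hx => by
        refine (S.ker ⟨h, hh⟩).1 (MulEquiv.ext fun p => hconj ?_)
        obtain ⟨k, hk⟩ := S.surj (MulAut.conj p)
        have hkI : (k : G) ∈ S.innerPart := (hNm k).2 ⟨p, hk.symm⟩
        have h1 := (S.ker (⟨h, hh⟩ * k * ⟨h, hh⟩⁻¹ * k⁻¹)).2 (hx k hkI)
        rw [map_mul, map_mul, map_mul, map_inv, map_inv, mul_inv_eq_one, hk] at h1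
        rw [MulAut.one_apply]
        refine Eq.trans ?_ h1
        exact MulEquiv.ext fun x => by simp [MulAut.conj_apply]
      two := fun a ha b hb hna hnb => (hNm (⟨a, ha⟩ * ⟨b, hb⟩)).2 (by
        rw [map_mul, Subgroup.mul_mem_iff_of_index_two hidx]
        exact iff_of_false (fun h => hna ((hNm ⟨a, ha⟩).2 h)) fun h => hnb ((hNm ⟨b, hb⟩).2 h))
      f := f
      surj := fun y => by
        obtain ⟨k, hk⟩ := S.surj (MulAut.conj (e y))
        have hkI : (k : G) ∈ S.innerPart := (hNm k).2 ⟨e y, hk.symm⟩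
        refine ⟨⟨k, hkI⟩, ?_⟩
        show e.symm (cr.symm ⟨S.f ⟨k, hIC hkI⟩, _⟩) = y
        rw [MulEquiv.symm_apply_eq, MulEquiv.symm_apply_eq]
        exact Subtype.ext hk
      ker := fun h => by
        show e.symm (cr.symm ⟨S.f ⟨h, hIC h.2⟩, _⟩) = 1 ↔ _
        rw [MulEquiv.map_eq_one_iff, MulEquiv.map_eq_one_iff, ← OneMemClass.coe_eq_one]
        exact S.ker ⟨h, hIC h.2⟩
      fixed := hfix }
  exact F.no_fusion g hg

end Cfsg.Lib.USixType
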