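import Cfsg.Agent.USixType.Natural

/-!
# A module of order `2^8` with a fixed element
-/

set_option autoImplicit false
set_option Elab.async false
set_option maxRecDepth 100000
set_option linter.style.haveILetI false

namespace Cfsg.Lib.USixType.Ext

open Subgroup

attribute [local irreducible] wordK ev grpMKey frameWord monoWord

variable {V : Type*} [AddCommGroup V] (ρ : ↥U →* AddMonoid.End V) [Finite V]

/-- With a fixed element the elements fixed by the diagonal group are four and fixed by everything. -/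
theorem fixed_part (hc : Nat.card V = 256) (h2 : ∀ v : V, v + v = 0) (hnt : ∃ g, ρ g ≠ 1) {v₀ : V} (hv : v₀ ≠ 0)
    (hfix : ∀ g, ρ g v₀ = v₀) : Nat.card ↥(T0 ρ) = 4 ∧ ∀ v ∈ T0 ρ, ∀ g, ρ g v = v := by
  have hT0 : v₀ ∈ T0 ρ := fun a => hfix (dg a)
  have hsp := card_split ρ h2
  rw [prod_classes _ (card_rep ρ), hc] at hsp
  set n0 := Nat.card ↥(Wset ρ 0)
  set n2 := Nat.card ↥(Wset ρ 2)
  set n3 := Nat.card ↥(Wset ρ 12)
  set t := Nat.card ↥(T0 ρ)
  have ht2 : 2 ≤ t := by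
    haveI : Nontrivial ↥(T0 ρ) := ⟨⟨⟨v₀, hT0⟩, 0, fun e => hv (congrArg Subtype.val e)⟩⟩
    exact Finite.one_lt_card
  have ge4 : ∀ B, Nat.card ↥(Wset ρ B) = 1 ∨ 4 ≤ Nat.card ↥(Wset ρ B) := fun B => by
    by_cases hB : Wset ρ B = ⊥
    · exact Or.inl (by rw [hB]; simp)
    · exact Or.inr (four_le ρ h2 hB)
  have e3 : n3 = 1 := (ge4 12).resolve_right fun h => by
    have h6 : 4 ^ 6 ≤ n3 ^ 6 := Nat.pow_le_pow_left h 6
    have : n3 ^ 6 ∣ 256 := ⟨t * (n0 ^ 4 * n2 ^ 3), by rw [← hsp]; ring⟩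
    have := Nat.le_of_dvd (by norm_num) this
    omega
  rw [e3, one_pow, mul_one] at hsp
  have e0 : n0 = 1 := (ge4 0).resolve_right fun h => by
    have h256 : 4 ^ 4 ≤ n0 ^ 4 := Nat.pow_le_pow_left h 4
    have p2 : 1 ≤ n2 ^ 3 := Nat.one_le_pow _ _ Nat.card_pos
    have hmul : 256 ≤ n0 ^ 4 * n2 ^ 3 := Nat.mul_le_mul h256 p2
    nlinarith
  rw [e0, one_pow, one_mul] at hsp
  have only : ∀ B, B ∉ ([2, 5, 6] : List (Fin 13)) → Wset ρ B = ⊥ := fun B hB => by
    refine AddSubgroup.card_eq_one.1 ?_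
    rw [card_rep ρ B]
    rcases (show ∀ B : Fin 13, B ∉ ([2, 5, 6] : List (Fin 13)) → repB B = 0 ∨ repB B = 12 by decide +kernel) B hB with
      h | h <;> rw [h]
    exacts [e0, e3]
  have hC : ∀ d ∈ ([24, 20, 8] : List (Fin 27)), ∀ v, ρ (dg d) v = v → v ∈ T0 ρ := by
    intro d hd v hv
    have hz : ∀ B, proj ρ B v = 0 := fun B => by
      by_cases hB : B ∈ ([2, 5, 6] : List (Fin 13))
      · refine eq_zero_of_fix ρ h2 (refl_free d hd B hB) (proj_mem ρ h2 B v) ?_
        rw [proj, map_add, fix_NA, ← NB_comm, hv]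
      · exact (AddSubgroup.eq_bot_iff_forall _).1 (only B hB) _ (proj_mem ρ h2 B v)
    have := sum_proj ρ h2 v
    simp only [hz, Finset.sum_const_zero, add_zero] at this
    exact this ▸ fun a => fix_NA ρ a v
  have inv : ∀ (g : ↥U), ∀ v ∈ T0 ρ, ρ g v ∈ T0 ρ := fun g => by
    have hg : g ∈ closure (Set.range st) := stable_top ▸ Subgroup.mem_top g
    induction hg using Subgroup.closure_induction'' with
    | one => intro v hv; rwa [rho_one]
    | mem x hx =>
      obtain ⟨s, rfl⟩ := hx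
      intro v hv
      obtain ⟨d, hd, e⟩ := stable_data.2.2.1 s
      exact hC d hd _ (by rw [← rho_mul, ← show st s * dg d = dg d * st s from fr_comm e, rho_mul, hv d])
    | inv_mem x hx =>
      obtain ⟨s, rfl⟩ := hx
      intro v hv
      obtain ⟨d, hd, e⟩ := stable_data.2.2.1 s
      refine hC d hd _ (rho_inj ρ (st s) ?_)
      rw [← rho_mul, show st s * dg d = dg d * st s from fr_comm e, rho_mul, ← rho_mul ρ (st s) (st s)⁻¹,
        mul_inv_cancel, rho_one, hv d]
    | mul x y _ _ hx hy => intro v hv; rw [rho_mul]; exact hx _ (hy _ hv)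
  have htriv : t ≤ 4 → ∀ v ∈ T0 ρ, ∀ g, ρ g v = v := by
    intro ht
    let τ : ↥U →* Equiv.Perm ↥(T0 ρ) :=
      { toFun := fun g => ⟨fun v => ⟨ρ g v.1, inv g _ v.2⟩, fun v => ⟨ρ g⁻¹ v.1, inv _ _ v.2⟩,
          fun v => Subtype.ext (by show ρ g⁻¹ (ρ g v.1) = _; rw [← rho_mul, inv_mul_cancel, rho_one]),
          fun v => Subtype.ext (by show ρ g (ρ g⁻¹ v.1) = _; rw [← rho_mul, mul_inv_cancel, rho_one])⟩
        map_one' := Equiv.ext fun v => Subtype.ext (rho_one ρ v.1)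
        map_mul' := fun g g' => Equiv.ext fun v => Subtype.ext (rho_mul ρ g g' v.1) }
    haveI := simple_U
    have hker : τ.ker = ⊤ := (τ.normal_ker.eq_bot_or_eq_top).resolve_left fun hb => by
      have := Nat.card_le_card_of_injective τ ((MonoidHom.ker_eq_bot_iff _).1 hb)
      rw [card_U, Nat.card_perm] at this
      have hf : (Nat.card ↥(T0 ρ)).factorial ≤ 24 := (Nat.factorial_le ht).trans_eq rfl
      omega
    intro v hv g
    have : τ g = 1 := MonoidHom.mem_ker.1 (hker ▸ Subgroup.mem_top g)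
    exact congrArg Subtype.val (DFunLike.congr_fun this ⟨v, hv⟩)
  rcases ge4 2 with e2 | e2
  · exfalso
    rw [show n2 = 1 from e2, one_pow, mul_one] at hsp
    have htop : T0 ρ = ⊤ := AddSubgroup.eq_top_of_card_eq _ (by rw [hc]; exact hsp)
    obtain ⟨g, hg⟩ := hnt
    exact hg (trivial_of_kernel ρ dg_ne.1 (AddMonoidHom.ext fun v =>
      (htop ▸ AddSubgroup.mem_top v : v ∈ T0 ρ) 1) g)
  · have h64 : 4 ^ 3 ≤ n2 ^ 3 := Nat.pow_le_pow_left e2 3
    have ht : t ≤ 4 := by nlinarith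
    refine ⟨?_, htriv ht⟩
    have hn : n2 = 4 := by
      by_contra hh
      have h5 : 5 ^ 3 ≤ n2 ^ 3 := Nat.pow_le_pow_left (show 5 ≤ n2 by omega) 3
      have h2t : 2 * 125 ≤ t * n2 ^ 3 := Nat.mul_le_mul ht2 h5
      have hle : n2 ≤ 6 := by
        by_contra h7
        have := Nat.pow_le_pow_left (show 7 ≤ n2 by omega) 3
        have := Nat.mul_le_mul ht2 this
        omega
      have : n2 = 5 ∨ n2 = 6 := by omega
      rcases this with e | e <;> rw [e] at hsp <;> omega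
    rw [hn] at hsp
    omega

end Cfsg.Lib.USixType.Ext
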