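import Cfsg.Agent.USixType.Ext.Fixed.Setting
import Cfsg.Agent.USixType.Ext.Fixed.Parity

/-!
# The parts of the centraliser over the fixed part
-/

set_option autoImplicit false
set_option Elab.async false
set_option maxRecDepth 100000
set_option linter.style.haveILetI false
set_option linter.unusedSectionVars false

namespace Cfsg.Lib.USixType.Ext.FixSetting

open Subgroup

universe u w

variable {G : Type u} [Group G] [Finite G] {z : G} {J I : Subgroup G} (S : FixSetting z J I)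

include S

theorem exists_pair : ∃ a ∈ S.fixPart, ∃ b ∈ S.fixPart, ¬ Commute a b := by
  by_contra hc
  push Not at hc
  have h := Subgroup.card_le_of_le (H := S.fixPart) fun x hx => S.fixPart_center hx fun y hy => hc x hx y hy
  rw [S.fix_facts.1, S.card_zp] at h
  omega

theorem not_zp {a b : G} (hb : Commute b z) (h : ¬ Commute a b) : a ∉ zpowers z := fun e => by
  rcases S.cases e with rfl | rfl
  exacts [h (Commute.one_left b), h hb.symm]

/-- What commutes with two generators commutes with the fixed part. -/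
theorem commute_fix {a b : G} (ha : a ∈ S.fixPart) (hb : b ∈ S.fixPart) (hab : ¬ Commute a b) {h : G}
    (h1 : Commute h a) (h2 : Commute h b) : ∀ y ∈ S.fixPart, Commute h y := by
  classical
  have hle : closure ({a, b} : Set G) ≤ S.fixPart := by
    rw [closure_le]
    rintro x (rfl | rfl) <;> assumption
  have hgen : closure ({a, b} : Set G) = S.fixPart := by
    refine eq_of_le_of_card_ge hle ?_
    rw [S.fix_facts.1]
    have hca : a ∈ closure ({a, b} : Set G) := subset_closure (Or.inl rfl)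
    have hcb : b ∈ closure ({a, b} : Set G) := subset_closure (Or.inr rfl)
    have hz : z = a * b * a⁻¹ * b⁻¹ := by
      rcases S.cases (S.comm_mem ha.1 hb.1) with e | e
      · exact absurd (mul_inv_eq_iff_eq_mul.1 (mul_inv_eq_one.1 e)) hab
      · exact e.symm
    have hzc : z ∈ closure ({a, b} : Set G) := hz ▸ mul_mem (mul_mem (mul_mem hca hcb) (inv_mem hca)) (inv_mem hcb)
    have n1 : a ≠ 1 := fun e => hab (e ▸ Commute.one_left b)
    have n2 : b ≠ 1 := fun e => hab (e ▸ Commute.one_right a)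
    have n3 : a ≠ z := fun e => hab (e ▸ (S.comm_z (S.memC hb.1)).symm)
    have n4 : b ≠ z := fun e => hab (e ▸ S.comm_z (S.memC ha.1))
    have n5 : a ≠ b := fun e => hab (e ▸ Commute.refl a)
    have n6 : a * b ≠ 1 := fun e => hab (eq_inv_of_mul_eq_one_right e ▸ (Commute.refl a).inv_right)
    have n7 : a * b ≠ z := fun e => hab (by
      have : b = a⁻¹ * z := by rw [← e, inv_mul_cancel_left]
      rw [this]
      exact (Commute.refl a).inv_right.mul_right (S.comm_z (S.memC ha.1)))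
    have hmem : ∀ x ∈ ({1, z, a, b, a * b} : Finset G), x ∈ closure ({a, b} : Set G) := by
      intro x hx
      simp only [Finset.mem_insert, Finset.mem_singleton] at hx
      rcases hx with rfl | rfl | rfl | rfl | rfl
      exacts [one_mem _, hzc, hca, hcb, mul_mem hca hcb]
    have h5 : ({1, z, a, b, a * b} : Finset G).card = 5 := by
      rw [Finset.card_insert_of_notMem, Finset.card_insert_of_notMem, Finset.card_insert_of_notMem,
        Finset.card_insert_of_notMem, Finset.card_singleton]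
      · simp only [Finset.mem_singleton]
        exact fun e => n1 (by simpa using e.symm)
      · simp only [Finset.mem_insert, Finset.mem_singleton, not_or]
        exact ⟨n5, fun e => n2 (by simpa using e.symm)⟩
      · simp only [Finset.mem_insert, Finset.mem_singleton, not_or]
        exact ⟨n3.symm, n4.symm, n7.symm⟩
      · simp only [Finset.mem_insert, Finset.mem_singleton, not_or]
        exact ⟨S.z_ne.symm, n1.symm, n2.symm, n6.symm⟩
    have hge := Set.ncard_le_ncard (s := (({1, z, a, b, a * b} : Finset G) : Set G))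
      (t := (closure ({a, b} : Set G) : Set G)) fun x hx => hmem x (Finset.mem_coe.1 hx)
    rw [Set.ncard_coe_finset, h5, ← Nat.card_coe_set_eq] at hge
    have hdvd := Subgroup.card_dvd_of_le hle
    rw [S.fix_facts.1] at hdvd
    obtain ⟨i, hi, e⟩ := (Nat.dvd_prime_pow Nat.prime_two).1 (show _ ∣ 2 ^ 3 from hdvd)
    change 5 ≤ Nat.card ↥(closure ({a, b} : Set G)) at hge
    rw [e] at hge ⊢
    interval_cases i <;> omega
  intro y hy
  rw [← hgen] at hy
  induction hy using closure_induction with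
  | mem x hx =>
    rcases hx with rfl | rfl
    exacts [h1, h2]
  | one => exact Commute.one_right h
  | mul x y _ _ a b => exact a.mul_right b
  | inv x _ a => exact a.inv_right

/-- The inner part is the fixed part times its centraliser. -/
theorem decomp {h : G} (hh : h ∈ I) : ∃ f ∈ S.fixPart, f⁻¹ * h ∈ centralizer (S.fixPart : Set G) := by
  obtain ⟨a, ha, b, hb, hab⟩ := S.exists_pair
  have key : ∀ f ∈ S.fixPart, f * a * f⁻¹ = h * a * h⁻¹ → f * b * f⁻¹ = h * b * h⁻¹ →
      f⁻¹ * h ∈ centralizer (S.fixPart : Set G) := fun f hf ea eb => mem_centralizer_iff.2 fun y hy => by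
    have e : ∀ {c : G}, f * c * f⁻¹ = h * c * h⁻¹ → Commute (f⁻¹ * h) c := fun {c} e => by
      show f⁻¹ * h * c = c * (f⁻¹ * h)
      calc f⁻¹ * h * c = f⁻¹ * (h * c * h⁻¹) * h := by group
        _ = f⁻¹ * (f * c * f⁻¹) * h := by rw [e]
        _ = _ := by group
    exact (S.commute_fix ha hb hab (e ea) (e eb) y hy).symm
  have hc : ∀ {c : G}, c ∈ S.fixPart → h * c * h⁻¹ = c ∨ h * c * h⁻¹ = c * z := fun {c} hc =>
    (S.cases (hc.2 h hh)).imp mul_inv_eq_one.1 fun e => by
      rw [mul_inv_eq_iff_eq_mul.1 e]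
      exact (S.comm_z (S.memC hc.1)).symm.eq
  have hba : b * a * b⁻¹ = a * z := (S.conj_cases hb.1 ha.1).resolve_left fun e =>
    hab (mul_inv_eq_iff_eq_mul.1 e).symm
  have hab' : a * b * a⁻¹ = b * z := (S.conj_cases ha.1 hb.1).resolve_left fun e =>
    hab (mul_inv_eq_iff_eq_mul.1 e)
  have haa : a * a * a⁻¹ = a := mul_inv_cancel_right a a
  have hbb : b * b * b⁻¹ = b := mul_inv_cancel_right b b
  have hza : a * z * a⁻¹ = z := by rw [(S.comm_z (S.memC ha.1)).eq, mul_inv_cancel_right]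
  rcases hc ha with ea | ea <;> rcases hc hb with eb | eb
  · exact ⟨1, one_mem _, key 1 (one_mem _) (by rw [ea]; group) (by rw [eb]; group)⟩
  · exact ⟨a, ha, key a ha (by rw [haa, ea]) (by rw [hab', eb])⟩
  · exact ⟨b, hb, key b hb (by rw [hba, ea]) (by rw [hbb, eb])⟩
  · refine ⟨a * b, mul_mem ha hb, key _ (mul_mem ha hb) ?_ ?_⟩
    · rw [ea, show a * b * a * (a * b)⁻¹ = a * (b * a * b⁻¹) * a⁻¹ by group, hba,
        show a * (a * z) * a⁻¹ = a * (a * z * a⁻¹) by group, hza]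
    · rw [eb, show a * b * b * (a * b)⁻¹ = a * (b * b * b⁻¹) * a⁻¹ by group, hbb, hab']

/-- The rest of the core. -/
def rest : Subgroup G := J ⊓ centralizer (S.fixPart : Set G)

/-- The centraliser of the fixed part in the inner part. -/
def lin : Subgroup G := I ⊓ centralizer (S.fixPart : Set G)

theorem rest_le_lin : S.rest ≤ S.lin := inf_le_inf_right _ S.le

theorem z_cent : z ∈ centralizer (S.fixPart : Set G) :=
  mem_centralizer_iff.2 fun _ hy => (S.comm_z (S.memC hy.1)).eq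

theorem z_rest : z ∈ S.rest := ⟨S.mem, S.z_cent⟩

theorem z_lin : z ∈ S.lin := S.rest_le_lin S.z_rest

theorem conj_cent {g q : G} (hg : g ∈ centralizer ({z} : Set G)) (hq : q ∈ centralizer (S.fixPart : Set G)) :
    g * q * g⁻¹ ∈ centralizer (S.fixPart : Set G) := mem_centralizer_iff.2 fun y hy => by
  have := mem_centralizer_iff.1 hq _ (S.conj_fixPart (inv_mem hg) hy)
  calc y * (g * q * g⁻¹) = g * ((g⁻¹ * y * g⁻¹⁻¹) * q) * g⁻¹ := by group
    _ = g * (q * (g⁻¹ * y * g⁻¹⁻¹)) * g⁻¹ := by rw [this]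
    _ = _ := by group

theorem conj_lin {g q : G} (hg : g ∈ centralizer ({z} : Set G)) (hq : q ∈ S.lin) : g * q * g⁻¹ ∈ S.lin :=
  ⟨S.conj_I hg hq.1, S.conj_cent hg hq.2⟩

theorem conj_rest {g q : G} (hg : g ∈ centralizer ({z} : Set G)) (hq : q ∈ S.rest) : g * q * g⁻¹ ∈ S.rest :=
  ⟨S.conj_J hg hq.1, S.conj_cent hg hq.2⟩

theorem core_decomp {q : G} (hq : q ∈ J) : ∃ f ∈ S.fixPart, f⁻¹ * q ∈ S.rest := by
  obtain ⟨f, hf, hc⟩ := S.decomp (S.le hq)
  exact ⟨f, hf, J.mul_mem (J.inv_mem hf.1) hq, hc⟩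

/-- Central in the rest is central in the core. -/
theorem rest_center {x : G} (hx : x ∈ S.rest) (hc : ∀ q ∈ S.rest, Commute x q) : x ∈ zpowers z := by
  refine S.central hx.1 fun q hq => ?_
  obtain ⟨f, hf, hr⟩ := S.core_decomp hq
  have h1 : Commute x f := (mem_centralizer_iff.1 hx.2 f hf).symm
  have := h1.mul_right (hc _ hr)
  rwa [mul_inv_cancel_left] at this

theorem rest_card : 64 ≤ Nat.card ↥S.rest := by
  let F : ↥S.fixPart × ↥S.rest → ↥J := fun p => ⟨p.1 * p.2, mul_mem p.1.2.1 p.2.2.1⟩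
  have hF : Function.Surjective F := fun q => by
    obtain ⟨f, hf, hr⟩ := S.core_decomp q.2
    exact ⟨(⟨f, hf⟩, ⟨_, hr⟩), Subtype.ext (mul_inv_cancel_left f q.1)⟩
  have := Nat.card_le_card_of_surjective F hF
  rw [Nat.card_prod, S.fix_facts.1, S.card] at this
  omega

/-- Half of the rest is not commutative. -/
theorem rest_big (Q₁ : Subgroup G) (hQ : Q₁ ≤ S.rest) (hcard : Nat.card ↥S.rest ≤ 2 * Nat.card ↥Q₁) :
    ∃ a ∈ Q₁, ∃ b ∈ Q₁, a * b * a⁻¹ * b⁻¹ = z := by
  by_contra hc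
  push Not at hc
  have hcomm : ∀ a ∈ Q₁, ∀ b ∈ Q₁, Commute a b := fun a ha b hb =>
    (S.cases (S.comm_mem (hQ ha).1 (hQ hb).1)).elim (fun e => mul_inv_eq_iff_eq_mul.1 (mul_inv_eq_one.1 e))
      fun e => absurd e (hc a ha b hb)
  have h64 := S.rest_card
  have hsmall : ∀ K : Subgroup G, K ≤ Q₁ → (∀ x ∈ K, ∀ q ∈ S.rest, Commute x q) → Nat.card ↥K ≤ 2 :=
    fun K hK h => (Subgroup.card_le_of_le fun x hx => S.rest_center (hQ (hK hx)) (h x hx)).trans_eq S.card_zp
  have hidx : (Q₁.subgroupOf S.rest).index ≤ 2 := by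
    have h1 := (Q₁.subgroupOf S.rest).card_mul_index
    rw [Nat.card_congr (Subgroup.subgroupOfEquivOfLe hQ).toEquiv] at h1
    by_contra h2
    have h3 : Nat.card ↥Q₁ * 3 ≤ Nat.card ↥Q₁ * (Q₁.subgroupOf S.rest).index := Nat.mul_le_mul_left _ (by omega)
    omega
  by_cases hall : ∀ w ∈ S.rest, w ∈ Q₁
  · have := hsmall Q₁ le_rfl fun x hx q hq => hcomm x hx q (hall q hq)
    omega
  · push Not at hall
    obtain ⟨w, hw, hwQ⟩ := hall
    have hidx2 : (Q₁.subgroupOf S.rest).index = 2 := by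
      rcases Nat.lt_or_eq_of_le hidx with h | h
      · exfalso
        have h1 : (Q₁.subgroupOf S.rest).index = 1 := by
          have := Subgroup.index_ne_zero_of_finite (H := Q₁.subgroupOf S.rest)
          omega
        rw [Subgroup.index_eq_one, Subgroup.subgroupOf_eq_top] at h1
        exact hwQ (h1 hw)
      · exact h
    have hdbl : Nat.card ↥Q₁ ≤ 2 * Nat.card ↥(Q₁ ⊓ centralizer ({w} : Set G)) := by
      by_cases hsub : Q₁ ≤ centralizer ({w} : Set G)
      · rw [inf_of_le_left hsub]; omega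
      obtain ⟨a, ha, ha'⟩ := SetLike.not_le_iff_exists.1 hsub
      have hna : ¬ Commute w a := fun e => ha' (mem_centralizer_singleton_iff.2 e.eq.symm)
      classical
      let F : Bool × ↥(Q₁ ⊓ centralizer ({w} : Set G)) → ↥Q₁ := fun p =>
        if p.1 then ⟨a * p.2.1, mul_mem ha p.2.2.1⟩ else ⟨p.2.1, p.2.2.1⟩
      have hF : Function.Surjective F := fun k => by
        by_cases hk : (k : G) ∈ centralizer ({w} : Set G)
        · exact ⟨(false, ⟨k, k.2, hk⟩), rfl⟩
        · have hnk : ¬ Commute w (k : G) := fun e => hk (mem_centralizer_singleton_iff.2 e.eq.symm)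
          have hna' : ¬ Commute w a⁻¹ := fun e => hna (Commute.inv_right_iff.1 e)
          have e := S.mul_comm_of_not (S.comm_z (S.memC (hQ k.2).1))
            ((S.conj_cases hw.1 (inv_mem (hQ ha).1)).resolve_left fun e => hna' (mul_inv_eq_iff_eq_mul.1 e))
            ((S.conj_cases hw.1 (hQ k.2).1).resolve_left fun e => hnk (mul_inv_eq_iff_eq_mul.1 e))
          exact ⟨(true, ⟨a⁻¹ * k, Q₁.mul_mem (Q₁.inv_mem ha) k.2, mem_centralizer_singleton_iff.2 e.eq.symm⟩),
            Subtype.ext (mul_inv_cancel_left a k)⟩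
      have := Nat.card_le_card_of_surjective F hF
      rwa [Nat.card_prod, show Nat.card Bool = 2 by simp] at this
    have := hsmall _ inf_le_left fun x hx q hq => by
      by_cases hqQ : q ∈ Q₁
      · exact hcomm x hx.1 q hqQ
      · have hmem : (⟨w, hw⟩ : ↥S.rest)⁻¹ * ⟨q, hq⟩ ∈ Q₁.subgroupOf S.rest := by
          rw [Subgroup.mul_mem_iff_of_index_two hidx2]
          exact iff_of_false (fun e => hwQ (inv_mem_iff.1 e : w ∈ Q₁)) hqQ
        have h1 : Commute x w := mem_centralizer_singleton_iff.1 hx.2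
        have h2 : w⁻¹ * q ∈ Q₁ := hmem
        have := h1.mul_right (hcomm x hx.1 _ h2)
        rwa [mul_inv_cancel_left] at this
    omega

theorem exists_rest_comm : ∃ c ∈ S.rest, ∃ d ∈ S.rest, c * d * c⁻¹ * d⁻¹ = z :=
  S.rest_big S.rest le_rfl (by omega)

theorem lin_decomp {h : G} (hh : h ∈ I) : ∃ f ∈ S.fixPart, f⁻¹ * h ∈ S.lin := by
  obtain ⟨f, hf, hc⟩ := S.decomp hh
  exact ⟨f, hf, I.mul_mem (I.inv_mem (S.le hf.1)) hh, hc⟩

theorem fix_lin {x : G} (hx : x ∈ S.fixPart) (hl : x ∈ S.lin) : x ∈ zpowers z :=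
  S.fixPart_center hx fun y hy => (mem_centralizer_iff.1 hl.2 y hy).symm

/-- The centraliser of the rest is the fixed part. -/
theorem cent_rest {h : G} (hh : h ∈ centralizer ({z} : Set G)) (hc : ∀ q ∈ S.rest, Commute h q) : h ∈ S.fixPart := by
  have inJ : ∀ {k : G}, k ∈ J → (∀ q ∈ S.rest, Commute k q) → k ∈ S.fixPart := fun {k} hk hkc => by
    obtain ⟨f, hf, hr⟩ := S.core_decomp hk
    have := S.rest_center hr fun q hq =>
      (show Commute f q from mem_centralizer_iff.1 hq.2 f hf).inv_left.mul_left (hkc q hq)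
    have e : k = f * (f⁻¹ * k) := (mul_inv_cancel_left f k).symm
    rw [e]
    refine mul_mem hf ?_
    rcases S.cases this with e' | e' <;> rw [e']
    exacts [one_mem _, S.z_fixPart]
  refine inJ (S.faithful h hh fun x hx => ?_) hc
  set k := h * x * h⁻¹ * x⁻¹ with hk
  have hkI : k ∈ I := mul_mem (S.conj_I hh hx) (inv_mem hx)
  have hxC := S.inC hx
  have hkc : ∀ q ∈ S.rest, Commute k q := fun q hq => by
    have h1 : Commute (x * h⁻¹ * x⁻¹) q := by
      have h3 := (hc _ (S.conj_rest (inv_mem hxC) hq)).inv_left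
      show x * h⁻¹ * x⁻¹ * q = q * (x * h⁻¹ * x⁻¹)
      calc x * h⁻¹ * x⁻¹ * q = x * (h⁻¹ * (x⁻¹ * q * x⁻¹⁻¹)) * x⁻¹ := by group
        _ = x * ((x⁻¹ * q * x⁻¹⁻¹) * h⁻¹) * x⁻¹ := by rw [h3.eq]
        _ = _ := by group
    have h2 := (hc q hq).mul_left h1
    rwa [show h * (x * h⁻¹ * x⁻¹) = k by rw [hk]; group] at h2
  obtain ⟨f, hf, hl⟩ := S.lin_decomp hkI
  have hl2 : f⁻¹ * k ∈ J := S.self _ (S.inC hl.1) fun q hq => by
    obtain ⟨f', hf', hr⟩ := S.core_decomp hq
    have e1 : Commute (f⁻¹ * k) f' := (mem_centralizer_iff.1 hl.2 f' hf').symm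
    have e2 : Commute (f⁻¹ * k) (f'⁻¹ * q) :=
      (show Commute f (f'⁻¹ * q) from mem_centralizer_iff.1 hr.2 f hf).inv_left.mul_left (hkc _ hr)
    have := e1.mul_right e2
    rwa [mul_inv_cancel_left] at this
  rw [show k = f * (f⁻¹ * k) from (mul_inv_cancel_left f k).symm]
  exact mul_mem hf.1 hl2

/-- The centraliser of the fixed part in the inner part has no abelian quotient. -/
theorem lin_perfect {A : Type*} [CommGroup A] (φ : ↥S.lin →* A) (l : ↥S.lin) : φ l = 1 := by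
  classical
  let φr : ↥S.rest →* A := φ.comp (Subgroup.inclusion S.rest_le_lin)
  have hinv : ∀ h ∈ I, ∀ p q : ↥S.rest, (q : G) = h * p * h⁻¹ → φr q = φr p := fun h hh p q e => by
    obtain ⟨f, hf, hl⟩ := S.lin_decomp hh
    have e1 : (q : G) = (f⁻¹ * h) * p * (f⁻¹ * h)⁻¹ := by
      have hm := S.conj_rest (S.inC hl.1) p.2
      have hfm : Commute f ((f⁻¹ * h) * p * (f⁻¹ * h)⁻¹) := mem_centralizer_iff.1 hm.2 f hf
      calc (q : G) = h * p * h⁻¹ := e
        _ = f * ((f⁻¹ * h) * p * (f⁻¹ * h)⁻¹) * f⁻¹ := by group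
        _ = _ := by rw [hfm.eq, mul_inv_cancel_right]
    show φ _ = φ _
    rw [show Subgroup.inclusion S.rest_le_lin q = ⟨f⁻¹ * h, hl⟩ * Subgroup.inclusion S.rest_le_lin p *
      (⟨f⁻¹ * h, hl⟩ : ↥S.lin)⁻¹ from Subtype.ext e1, map_mul, map_mul, map_inv, mul_comm, inv_mul_cancel_left]
  have hrest : ∀ q : ↥S.rest, φr q = 1 := S.invariant_trivial (T := S.rest) inf_le_left
    (fun h hh q hq => S.conj_rest (S.inC hh) hq) φr hinv fun q hq => by
      obtain ⟨c, hc, d, hd, e⟩ := S.exists_rest_comm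
      rcases S.cases (S.fix_lin hq (S.rest_le_lin q.2)) with h | h
      · rw [show q = 1 from Subtype.ext h, map_one]
      · rw [show q = (⟨c, hc⟩ : ↥S.rest) * ⟨d, hd⟩ * ⟨c, hc⟩⁻¹ * ⟨d, hd⟩⁻¹ from Subtype.ext (h.trans e.symm),
          map_mul, map_mul, map_mul, map_inv, map_inv, mul_comm (φr _), mul_assoc (φr _), mul_inv_cancel, mul_one,
          mul_inv_cancel]
  let g : ↥S.lin →* ↥U := S.f.comp (Subgroup.inclusion inf_le_left)
  have hg : Function.Surjective g := fun y => by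
    obtain ⟨h, rfl⟩ := S.surj y
    obtain ⟨f, hf, hl⟩ := S.lin_decomp h.2
    refine ⟨⟨f⁻¹ * h, hl⟩, ?_⟩
    show S.f ⟨f⁻¹ * h, hl.1⟩ = _
    rw [show (⟨f⁻¹ * h, hl.1⟩ : ↥I) = ⟨f, S.le hf.1⟩⁻¹ * h from Subtype.ext rfl, map_mul, map_inv,
      (S.ker _).2 hf.1, inv_one, one_mul]
  have hker : ∀ k : ↥S.lin, g k = 1 → φ k = 1 := fun k hk =>
    hrest ⟨k, (S.ker ⟨k.1, k.2.1⟩).1 hk, k.2.2⟩
  choose sec hsec using hg
  have hwd : ∀ p q : ↥S.lin, g p = g q → φ p = φ q := fun p q e => by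
    have := hker (p * q⁻¹) (by rw [map_mul, map_inv, e, mul_inv_cancel])
    rwa [map_mul, map_inv, mul_inv_eq_one] at this
  let ψ : ↥U →* A :=
    { toFun := fun y => φ (sec y)
      map_one' := by rw [hwd (sec 1) 1 (by rw [hsec, map_one]), map_one]
      map_mul' := fun x y => by rw [← map_mul]; exact hwd _ _ (by rw [map_mul, hsec, hsec, hsec]) }
  haveI := simple_U
  have hψ : ψ.ker = ⊤ := (ψ.normal_ker.eq_bot_or_eq_top).resolve_left fun hb => by
    have h := (MonoidHom.ker_eq_bot_iff _).1 hb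
      (show ψ (⟨tvP 0, tvP_mem 0⟩ * ⟨tvP 1, tvP_mem 1⟩) = ψ (⟨tvP 1, tvP_mem 1⟩ * ⟨tvP 0, tvP_mem 0⟩) by
        rw [map_mul, map_mul, mul_comm])
    have h2 := (USixType.commute_iff 0 1).1 (congrArg Subtype.val h)
    revert h2
    decide +kernel
  rw [hwd l (sec (g l)) (hsec _).symm]
  exact (MonoidHom.mem_ker.1 (hψ ▸ Subgroup.mem_top (g l)) : ψ (g l) = 1)

set_option maxHeartbeats 1000000 in
/-- A character of the centraliser without the linear part separating the fixed part. -/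
theorem exists_sign : ∃ lam : ↥(centralizer ({z} : Set G)) →* ℤˣ, ∃ f₁ : ↥(centralizer ({z} : Set G)),
    (f₁ : G) ∈ S.fixPart ∧ lam f₁ = -1 := by
  classical
  set C := centralizer ({z} : Set G)
  let N : Subgroup ↥C := S.lin.subgroupOf C
  haveI : N.Normal := ⟨fun q hq g => S.conj_lin g.2 hq⟩
  let D : Subgroup (↥C ⧸ N) := (I.subgroupOf C).map (QuotientGroup.mk' N)
  obtain ⟨a, ha, b, hb, hab⟩ := S.exists_pair
  have hD2 : ∀ d ∈ D, d * d = 1 := by
    rintro _ ⟨h, hh, rfl⟩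
    rw [← map_mul, QuotientGroup.mk'_apply, QuotientGroup.eq_one_iff]
    obtain ⟨f, hf, hl⟩ := S.lin_decomp (hh : (h : G) ∈ I)
    show (h : G) * h ∈ S.lin
    have hfC := S.memC hf.1
    rw [show (h : G) * h = (f * (f⁻¹ * h) * f⁻¹) * (f * f) * (f⁻¹ * h) by group]
    refine mul_mem (mul_mem (S.conj_lin hfC hl) ?_) hl
    rcases S.cases (S.sq_mem hf.1) with e | e <;> rw [e]
    exacts [one_mem _, S.z_lin]
  have hout : ∀ γ : ↥C ⧸ N, γ * γ ∈ D := fun γ => by
    obtain ⟨h, rfl⟩ := QuotientGroup.mk_surjective γ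
    exact ⟨h * h, S.sq_I h.2, rfl⟩
  have h4 : ∀ γ : ↥C ⧸ N, γ ^ 4 = 1 := fun γ => by
    rw [show 4 = 2 * 2 from rfl, pow_mul, pow_two γ, pow_two]
    exact hD2 _ (hout γ)
  have hp : IsPGroup 2 (↥C ⧸ N) := fun γ => ⟨2, h4 γ⟩
  haveI : Fact (Nat.Prime 2) := ⟨Nat.prime_two⟩
  obtain ⟨n, hn⟩ := IsPGroup.iff_card.1 hp
  have hD3 : 3 ≤ Nat.card ↥D := by
    let a' : ↥C := ⟨a, S.memC ha.1⟩
    let b' : ↥C := ⟨b, S.memC hb.1⟩
    have hm : ∀ x : ↥C, (x : G) ∈ S.fixPart → (QuotientGroup.mk x : ↥C ⧸ N) ∈ D :=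
      fun x hx => ⟨x, S.le hx.1, rfl⟩
    let F : Fin 3 → ↥D := ![1, ⟨_, hm a' ha⟩, ⟨_, hm b' hb⟩]
    have no : ∀ {x : G}, x ∈ S.lin → ∀ y ∈ S.fixPart, Commute x y := fun hx y hy =>
      (mem_centralizer_iff.1 hx.2 y hy).symm
    have e1 : (⟨_, hm a' ha⟩ : ↥D) ≠ 1 := fun e => by
      have h1 : a' ∈ N := (QuotientGroup.eq_one_iff a').1 (congrArg Subtype.val e)
      have h2 : a ∈ S.lin := h1
      exact hab (no h2 b hb)
    have e2 : (⟨_, hm b' hb⟩ : ↥D) ≠ 1 := fun e => by
      have h1 : b' ∈ N := (QuotientGroup.eq_one_iff b').1 (congrArg Subtype.val e)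
      have h2 : b ∈ S.lin := h1
      exact hab (no h2 a ha).symm
    have e3 : (⟨_, hm a' ha⟩ : ↥D) ≠ ⟨_, hm b' hb⟩ := fun e => hab (by
      have h0 : a'⁻¹ * b' ∈ N := QuotientGroup.eq.1 (congrArg Subtype.val e)
      have h0' : a⁻¹ * b ∈ S.lin := h0
      have h1 := no h0' a ha
      have h2 := (Commute.refl a).mul_right h1.symm
      rwa [mul_inv_cancel_left] at h2)
    have : Function.Injective F := by
      intro i j e
      fin_cases i <;> fin_cases j <;> simp [F, e1, e1.symm, e2, e2.symm, e3, e3.symm] at e ⊢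
    simpa using Nat.card_le_card_of_injective F this
  obtain ⟨H, hH2, hHD⟩ : ∃ H : Subgroup (↥C ⧸ N), 2 * Nat.card ↥H ≤ 2 ^ n ∧
      ∀ K : Subgroup (↥C ⧸ N), H ≤ K → D ≤ K → K = ⊤ := by
    by_cases hex : ∀ γ : ↥C ⧸ N, γ ∈ D
    · refine ⟨⊥, ?_, fun K _ hK => eq_top_iff.2 fun γ _ => hK (hex γ)⟩
      rw [Subgroup.card_bot, ← hn]
      exact (show 2 ≤ 3 by norm_num).trans (hD3.trans (Subgroup.card_le_card_group D))
    · push Not at hex
      obtain ⟨o, ho⟩ := hex
      refine ⟨zpowers o, ?_, fun K hoK hK => eq_top_iff.2 fun γ _ => ?_⟩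
      · obtain ⟨h, rfl⟩ := QuotientGroup.mk_surjective o
        have hne : zpowers (QuotientGroup.mk h : ↥C ⧸ N) ≠ ⊤ := fun e => by
          have hsub : ∀ d ∈ D, d = 1 ∨ d = (QuotientGroup.mk h : ↥C ⧸ N) ^ 2 := fun d hd => by
            obtain ⟨j, hj⟩ := Subgroup.mem_zpowers_iff.1 (e ▸ Subgroup.mem_top d)
            have e4 : (QuotientGroup.mk h : ↥C ⧸ N) ^ (4 : ℤ) = 1 := by exact_mod_cast h4 _
            rw [← Int.mul_ediv_add_emod j 4, zpow_add, zpow_mul, e4, one_zpow, one_mul] at hj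
            rw [← hj] at hd ⊢
            have hlt := Int.emod_lt_of_pos j (show (0 : ℤ) < 4 by norm_num)
            have hge := Int.emod_nonneg j (show (4 : ℤ) ≠ 0 by norm_num)
            generalize j % 4 = r at hlt hge hd ⊢
            interval_cases r
            · exact Or.inl (zpow_zero _)
            · exact absurd (by simpa using hd) ho
            · exact Or.inr (by norm_cast)
            · refine absurd ?_ ho
              have h1 : (QuotientGroup.mk h : ↥C ⧸ N) ^ (3 : ℤ) = (QuotientGroup.mk h : ↥C ⧸ N)⁻¹ := by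
                rw [eq_inv_iff_mul_eq_one, ← zpow_add_one]
                exact e4
              rw [h1] at hd
              exact inv_mem_iff.1 hd
          have := Nat.card_le_card_of_surjective
            (fun i : Bool => (if i then ⟨(QuotientGroup.mk h : ↥C ⧸ N) * QuotientGroup.mk h, hout _⟩ else 1 : ↥D))
            (fun d => by
              rcases hsub d d.2 with e' | e'
              · exact ⟨false, Subtype.ext (by simp [e'])⟩
              · exact ⟨true, Subtype.ext (by simp [e', pow_two])⟩)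
          simp at this
          omega
        obtain ⟨j, hj, e⟩ := (Nat.dvd_prime_pow Nat.prime_two).1 (hn ▸ Subgroup.card_subgroup_dvd_card
          (zpowers (QuotientGroup.mk h : ↥C ⧸ N)))
        have hlt : j < n := lt_of_le_of_ne hj fun e' => hne (Subgroup.eq_top_of_card_eq _ (by rw [e, hn, e']))
        rw [e, show 2 * 2 ^ j = 2 ^ (j + 1) by ring]
        exact Nat.pow_le_pow_right (by norm_num) hlt
      · by_cases hγ : γ ∈ D
        · exact hK hγ
        · obtain ⟨g, rfl⟩ := QuotientGroup.mk_surjective γ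
          obtain ⟨h, rfl⟩ := QuotientGroup.mk_surjective o
          have hgh : (QuotientGroup.mk g : ↥C ⧸ N) * QuotientGroup.mk h ∈ D :=
            ⟨g * h, S.two g g.2 h h.2 (fun e => hγ ⟨g, e, rfl⟩) (fun e => ho ⟨h, e, rfl⟩), rfl⟩
          rw [← mul_inv_cancel_right (QuotientGroup.mk g : ↥C ⧸ N) (QuotientGroup.mk h)]
          exact mul_mem (hK hgh) (inv_mem (hoK (mem_zpowers _)))
  obtain ⟨j, hj⟩ := IsPGroup.iff_card.1 (hp.to_subgroup H)
  have hjn : j + 1 ≤ n := by
    rw [hj, show 2 * 2 ^ j = 2 ^ (j + 1) by ring] at hH2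
    exact (Nat.pow_le_pow_iff_right (by norm_num)).1 hH2
  obtain ⟨K, hK, hHK⟩ := Sylow.exists_subgroup_card_pow_prime_le 2 (m := n - 1)
    (hn ▸ pow_dvd_pow 2 (Nat.sub_le n 1)) H hj (by omega)
  have hKi : K.index = 2 := by
    have := K.card_mul_index
    rw [hK, hn, show n = n - 1 + 1 by omega, pow_succ] at this
    exact mul_left_cancel₀ (pow_ne_zero _ two_ne_zero) this
  have hnot : ¬ D ≤ K := fun h => by
    rw [hHD K hHK h, Subgroup.index_top] at hKi
    omega
  obtain ⟨_, ⟨h, hh, rfl⟩, hnK⟩ := SetLike.not_le_iff_exists.1 hnot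
  obtain ⟨f, hf, hl⟩ := S.lin_decomp (hh : (h : G) ∈ I)
  refine ⟨MonoidHom.mk' (fun g => if (QuotientGroup.mk g : ↥C ⧸ N) ∈ K then 1 else -1) fun p q => ?_,
    ⟨f, S.memC hf.1⟩, hf, if_neg fun e => hnK ?_⟩
  · have h1 := Subgroup.mul_mem_iff_of_index_two hKi (a := (QuotientGroup.mk p : ↥C ⧸ N)) (b := QuotientGroup.mk q)
    rw [← QuotientGroup.mk_mul] at h1
    by_cases hp' : (QuotientGroup.mk p : ↥C ⧸ N) ∈ K <;> by_cases hq' : (QuotientGroup.mk q : ↥C ⧸ N) ∈ K <;>
      simp_all [-QuotientGroup.mk_mul]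
  · have hl' : (⟨f, S.memC hf.1⟩ : ↥C)⁻¹ * h ∈ N := hl
    rw [QuotientGroup.mk'_apply, ← QuotientGroup.eq.2 hl']
    exact e

end Cfsg.Lib.USixType.Ext.FixSetting
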