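import Cfsg.Agent.USixType.Ext.Fixed.Module
import Cfsg.Agent.PGroups.Basic
import Cfsg.Prelude.Def_Transfer

/-!
# An extraspecial core with a fixed vector: the setting
-/

set_option autoImplicit false
set_option Elab.async false
set_option maxRecDepth 100000
set_option linter.style.haveILetI false

namespace Cfsg.Lib.USixType.Ext

open Subgroup

universe u

variable {G : Type u} [Group G]

theorem eq_one_or_of_zpowers {z x : G} (hz : z * z = 1) (hx : x ∈ zpowers z) : x = 1 ∨ x = z := by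
  obtain ⟨n, rfl⟩ := hx
  show z ^ n = 1 ∨ z ^ n = z
  have h2 : z ^ (2 : ℤ) = 1 := by rw [show (2 : ℤ) = ((2 : ℕ) : ℤ) from rfl, zpow_natCast, pow_two, hz]
  rcases Int.even_or_odd n with ⟨k, rfl⟩ | ⟨k, rfl⟩
  · left; rw [← two_mul, zpow_mul, h2, one_zpow]
  · right; rw [zpow_add, zpow_mul, h2, one_zpow, one_mul, zpow_one]

/-- An extraspecial core with the unitary group above it inside the centraliser and a fixed vector. -/
structure FixSetting (z : G) (J I : Subgroup G) where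
  order : orderOf z = 2
  card : Nat.card ↥J = 2 ^ 9
  extra : Cfsg.IsExtraspecial 2 ↥J
  mem : z ∈ J
  le : J ≤ I
  inC : I ≤ centralizer ({z} : Set G)
  norm : centralizer ({z} : Set G) ≤ normalizer (J : Set G)
  normI : centralizer ({z} : Set G) ≤ normalizer (I : Set G)
  self : ∀ g ∈ centralizer ({z} : Set G), (∀ q ∈ J, g * q = q * g) → g ∈ J
  faithful : ∀ h ∈ centralizer ({z} : Set G), (∀ x ∈ I, h * x * h⁻¹ * x⁻¹ ∈ J) → h ∈ J
  two : ∀ a ∈ centralizer ({z} : Set G), ∀ b ∈ centralizer ({z} : Set G), a ∉ I → b ∉ I → a * b ∈ I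
  f : ↥I →* ↥U
  surj : Function.Surjective f
  ker : ∀ h, f h = 1 ↔ (h : G) ∈ J
  fixed : ∃ q ∈ J, q ∉ zpowers z ∧ ∀ h ∈ I, h * q * h⁻¹ * q⁻¹ ∈ zpowers z

namespace FixSetting

variable {z : G} {J I : Subgroup G} (S : FixSetting z J I)

include S

theorem z_sq : z * z = 1 := by rw [← pow_two, ← S.order, pow_orderOf_eq_one]

theorem z_inv : z⁻¹ = z := inv_eq_of_mul_eq_one_left S.z_sq

theorem z_ne : z ≠ 1 := fun e => by
  have := S.order
  rw [e, orderOf_one] at this
  exact absurd this (by norm_num)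

theorem cases {x : G} (hx : x ∈ zpowers z) : x = 1 ∨ x = z := eq_one_or_of_zpowers S.z_sq hx

theorem card_zp : Nat.card ↥(zpowers z) = 2 := by rw [Nat.card_zpowers]; exact S.order

theorem comm_z {h : G} (hh : h ∈ centralizer ({z} : Set G)) : Commute h z := mem_centralizer_singleton_iff.1 hh

theorem conj_J {h q : G} (hh : h ∈ centralizer ({z} : Set G)) (hq : q ∈ J) : h * q * h⁻¹ ∈ J :=
  (mem_normalizer_iff.1 (S.norm hh) q).1 hq

theorem conj_I {h q : G} (hh : h ∈ centralizer ({z} : Set G)) (hq : q ∈ I) : h * q * h⁻¹ ∈ I :=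
  (mem_normalizer_iff.1 (S.normI hh) q).1 hq

theorem memC {q : G} (hq : q ∈ J) : q ∈ centralizer ({z} : Set G) := S.inC (S.le hq)

theorem sq_I {h : G} (hh : h ∈ centralizer ({z} : Set G)) : h * h ∈ I := by
  by_cases hI : h ∈ I
  · exact mul_mem hI hI
  · exact S.two h hh h hh hI hI

theorem center_eq [Finite G] : Subgroup.center ↥J = (zpowers z).subgroupOf J := by
  refine (Subgroup.eq_of_le_of_card_ge ?_ ?_).symm
  · intro x hx
    have hx' : (x : G) ∈ zpowers z := hx
    rcases S.cases hx' with e | e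
    · rw [show x = 1 from Subtype.ext e]; exact one_mem _
    · exact mem_center_iff.2 fun q => Subtype.ext (by
        show (q : G) * x = x * q
        rw [e, (S.comm_z (S.memC q.2)).eq])
  · rw [S.extra.2, Nat.card_congr (Subgroup.subgroupOfEquivOfLe (zpowers_le.2 S.mem)).toEquiv, S.card_zp]

theorem central [Finite G] {x : G} (hx : x ∈ J) (h : ∀ q ∈ J, Commute x q) : x ∈ zpowers z :=
  (S.center_eq ▸ mem_center_iff.2 fun q => Subtype.ext (h q q.2).symm.eq : (⟨x, hx⟩ : ↥J) ∈ (zpowers z).subgroupOf J)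

theorem sq_mem [Finite G] {q : G} (hq : q ∈ J) : q * q ∈ zpowers z := by
  haveI : Fact (Nat.Prime 2) := ⟨Nat.prime_two⟩
  have : (⟨q, hq⟩ : ↥J) * ⟨q, hq⟩ ∈ Subgroup.center ↥J := by
    rw [← S.extra.1.2.1, ← pow_two]
    exact Cfsg.Lib.PGroups.pow_mem_frattini S.extra.1.1 _
  rw [S.center_eq] at this
  exact this

theorem comm_mem [Finite G] {p q : G} (hp : p ∈ J) (hq : q ∈ J) : p * q * p⁻¹ * q⁻¹ ∈ zpowers z := by
  have : (⟨p, hp⟩ : ↥J) * ⟨q, hq⟩ * ⟨p, hp⟩⁻¹ * ⟨q, hq⟩⁻¹ ∈ Subgroup.center ↥J := by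
    rw [← S.extra.1.2.2, commutator_eq_closure]
    exact subset_closure ⟨_, _, rfl⟩
  rw [S.center_eq] at this
  exact this

theorem conj_cases [Finite G] {p q : G} (hp : p ∈ J) (hq : q ∈ J) : p * q * p⁻¹ = q ∨ p * q * p⁻¹ = q * z :=
  (S.cases (S.comm_mem hp hq)).imp mul_inv_eq_one.1 fun e => by
    rw [mul_inv_eq_iff_eq_mul.1 e]
    exact (S.comm_z (S.memC hq)).symm.eq

/-- If conjugation by `x` is trivial or by `z`, two non-commuting elements have a commuting product. -/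
theorem mul_comm_of_not {x p q : G} (hq : Commute q z) (hp' : x * p * x⁻¹ = p * z) (hq' : x * q * x⁻¹ = q * z) :
    Commute x (p * q) := by
  refine mul_inv_eq_iff_eq_mul.1 ?_
  rw [show x * (p * q) * x⁻¹ = (x * p * x⁻¹) * (x * q * x⁻¹) by group, hp', hq', mul_assoc, ← mul_assoc z,
    ← hq.eq, mul_assoc q, S.z_sq, mul_one]

/-- A character from commutators in the core. -/
theorem exists_char [Finite G] {x : G} (hx : x ∈ J) : ∃ φ : ↥J →* ℤˣ, ∀ q : ↥J, φ q = 1 ↔ Commute x q := by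
  classical
  refine ⟨MonoidHom.mk' (fun q => if Commute x (q : G) then 1 else -1) fun p q => ?_, fun q => ?_⟩
  · by_cases hp : Commute x (p : G)
    · by_cases hq : Commute x (q : G)
      · rw [if_pos hp, if_pos hq, if_pos (show Commute x ((p * q : ↥J) : G) from hp.mul_right hq)]; rfl
      · rw [if_pos hp, if_neg hq, if_neg fun h : Commute x ((p * q : ↥J) : G) => hq (by
          have := hp.inv_right.mul_right h
          rwa [Subgroup.coe_mul, inv_mul_cancel_left] at this)]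
        rfl
    · by_cases hq : Commute x (q : G)
      · rw [if_neg hp, if_pos hq, if_neg fun h : Commute x ((p * q : ↥J) : G) => hp (by
          have := h.mul_right hq.inv_right
          rwa [Subgroup.coe_mul, mul_inv_cancel_right] at this)]
        rfl
      · rw [if_neg hp, if_neg hq, if_pos (show Commute x ((p * q : ↥J) : G) from S.mul_comm_of_not
          (S.comm_z (S.memC q.2))
          ((S.conj_cases hx p.2).resolve_left fun e => hp (mul_inv_eq_iff_eq_mul.1 e))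
          ((S.conj_cases hx q.2).resolve_left fun e => hq (mul_inv_eq_iff_eq_mul.1 e)))]
        rfl
  · show (if Commute x (q : G) then (1 : ℤˣ) else -1) = 1 ↔ _
    split <;> simp_all

/-- The fixed part. -/
def fixPart : Subgroup G where
  carrier := {q | q ∈ J ∧ ∀ h ∈ I, h * q * h⁻¹ * q⁻¹ ∈ zpowers z}
  one_mem' := ⟨one_mem J, fun h _ => by simp⟩
  mul_mem' := fun {p q} hp hq => ⟨mul_mem hp.1 hq.1, fun h hh => by
    rw [show h * (p * q) * h⁻¹ * (p * q)⁻¹ = (h * p * h⁻¹ * p⁻¹) * (p * (h * q * h⁻¹ * q⁻¹) * p⁻¹) by group]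
    refine mul_mem (hp.2 h hh) ?_
    obtain ⟨n, hn⟩ := hq.2 h hh
    rw [← hn, (((S.comm_z (S.memC hp.1)).zpow_right n).eq), mul_inv_cancel_right]
    exact zpow_mem (mem_zpowers z) n⟩
  inv_mem' := fun {q} hq => ⟨inv_mem hq.1, fun h hh => by
    rw [show h * q⁻¹ * h⁻¹ * q⁻¹⁻¹ = q⁻¹ * (h * q * h⁻¹ * q⁻¹)⁻¹ * q by group]
    obtain ⟨n, hn⟩ := inv_mem (hq.2 h hh)
    rw [← hn, ((((S.comm_z (S.memC hq.1)).zpow_right n).inv_left).eq), inv_mul_cancel_right]
    exact zpow_mem (mem_zpowers z) n⟩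

theorem fixPart_le : S.fixPart ≤ J := fun _ h => h.1

theorem z_fixPart : z ∈ S.fixPart := ⟨S.mem, fun h hh => by
  rw [(S.comm_z (S.inC hh)).eq, mul_inv_cancel_right, mul_inv_cancel]; exact one_mem _⟩

theorem conj_fixPart {g q : G} (hg : g ∈ centralizer ({z} : Set G)) (hq : q ∈ S.fixPart) :
    g * q * g⁻¹ ∈ S.fixPart := by
  refine ⟨S.conj_J hg hq.1, fun h hh => ?_⟩
  have := hq.2 (g⁻¹ * h * g⁻¹⁻¹) (S.conj_I (inv_mem hg) hh)
  obtain ⟨n, hn⟩ := this
  refine ⟨n, ?_⟩
  show z ^ n = _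
  calc z ^ n = g * (z ^ n) * g⁻¹ := by rw [((S.comm_z hg).zpow_right n).eq, mul_inv_cancel_right]
    _ = _ := by rw [show z ^ n = _ from hn]; group

set_option maxHeartbeats 1000000 in
/-- The fixed part has order eight; the averages over the diagonal group lie in it. -/
theorem fix_facts [Finite G] : Nat.card ↥S.fixPart = 8 ∧ ∀ j : ↥J, ∃ (h : Fin 27 → ↥I) (c : Fin 27 → ↥J),
    (∀ i, (c i : G) = h i * j * (h i : G)⁻¹) ∧ (((List.finRange 27).map c).prod : G) ∈ S.fixPart := by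
  classical
  have hcz := S.center_eq
  letI : CommGroup (↥J ⧸ Subgroup.center ↥J) :=
    { (inferInstance : Group (↥J ⧸ Subgroup.center ↥J)) with
      mul_comm := fun a b => by
        induction a using QuotientGroup.induction_on with
        | H p =>
        induction b using QuotientGroup.induction_on with
        | H q =>
        refine (QuotientGroup.eq.2 ?_)
        rw [show (p * q)⁻¹ * (q * p) = q⁻¹ * p⁻¹ * q⁻¹⁻¹ * p⁻¹⁻¹ by group, hcz]
        exact S.comm_mem (inv_mem q.2) (inv_mem p.2) }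
  let V := Additive (↥J ⧸ Subgroup.center ↥J)
  let cl : ↥J → V := fun q => Additive.ofMul (QuotientGroup.mk q)
  have hcl : ∀ p q : ↥J, cl p = cl q ↔ (p : G)⁻¹ * q ∈ zpowers z := fun p q => by
    show Additive.ofMul (QuotientGroup.mk p) = Additive.ofMul (QuotientGroup.mk q) ↔ _
    rw [Additive.ofMul.apply_eq_iff_eq, QuotientGroup.eq, hcz]
    rfl
  let conjJ : ↥I → (↥J →* ↥J) := fun h =>
    { toFun := fun q => ⟨(h : G) * q * (h : G)⁻¹, S.conj_J (S.inC h.2) q.2⟩
      map_one' := Subtype.ext (by simp)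
      map_mul' := fun p q => Subtype.ext (by simp only [Subgroup.coe_mul]; group) }
  have hpres : ∀ h, Subgroup.center ↥J ≤ (Subgroup.center ↥J).comap (conjJ h) := by
    intro h c hc
    rw [Subgroup.mem_comap, hcz] at *
    obtain ⟨n, hn⟩ := hc
    refine ⟨n, ?_⟩
    show z ^ n = (h : G) * c * (h : G)⁻¹
    rw [← show z ^ n = (c : G) from hn, ((S.comm_z (S.inC h.2)).zpow_right n).eq, mul_inv_cancel_right]
  let act : ↥I →* AddMonoid.End V :=
    { toFun := fun h => MonoidHom.toAdditive (QuotientGroup.map _ _ (conjJ h) (hpres h))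
      map_one' := by
        refine AddMonoidHom.ext fun v => ?_
        obtain ⟨q, rfl⟩ := QuotientGroup.mk_surjective (Additive.toMul v)
        exact congrArg (fun x => Additive.ofMul (QuotientGroup.mk x))
          (show conjJ 1 q = q from Subtype.ext (by show (1 : G) * q * 1⁻¹ = q; group))
      map_mul' := fun g h => by
        refine AddMonoidHom.ext fun v => ?_
        obtain ⟨q, rfl⟩ := QuotientGroup.mk_surjective (Additive.toMul v)
        exact congrArg (fun x => Additive.ofMul (QuotientGroup.mk x))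
          (show conjJ (g * h) q = conjJ g (conjJ h q) from Subtype.ext (by
            show ((g : G) * h) * q * ((g : G) * h)⁻¹ = g * ((h : G) * q * (h : G)⁻¹) * (g : G)⁻¹; group)) }
  have hact : ∀ h : ↥I, (h : G) ∈ J → act h = 1 := fun h hh => by
    refine AddMonoidHom.ext fun v => ?_
    obtain ⟨q, rfl⟩ := QuotientGroup.mk_surjective (Additive.toMul v)
    show cl (conjJ h q) = cl q
    rw [hcl]
    show ((h : G) * q * (h : G)⁻¹)⁻¹ * q ∈ zpowers z
    rw [show ((h : G) * q * (h : G)⁻¹)⁻¹ * q = (h : G) * (q : G)⁻¹ * (h : G)⁻¹ * ((q : G)⁻¹)⁻¹ by group]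
    exact S.comm_mem hh (inv_mem q.2)
  choose sec hsec using S.surj
  have hwd : ∀ a b, S.f a = S.f b → act a = act b := fun a b hab => by
    have : act (a * b⁻¹) = 1 := hact _ ((S.ker _).1 (by rw [map_mul, map_inv, hab, mul_inv_cancel]))
    calc act a = act (a * b⁻¹ * b) := by rw [inv_mul_cancel_right]
      _ = act b := by rw [map_mul, this, one_mul]
  let ρ : ↥U →* AddMonoid.End V :=
    { toFun := fun g => act (sec g)
      map_one' := by rw [hwd (sec 1) 1 (by rw [hsec, map_one]), map_one]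
      map_mul' := fun g h => by rw [← map_mul]; exact hwd _ _ (by rw [map_mul, hsec, hsec, hsec]) }
  have hρ : ∀ (h : ↥I) (q : ↥J), ρ (S.f h) (cl q) = cl (conjJ h q) := fun h q => by
    show act (sec (S.f h)) (cl q) = _
    rw [hwd _ h (hsec _)]
    rfl
  haveI : Finite V := inferInstanceAs (Finite (↥J ⧸ Subgroup.center ↥J))
  have hcard : Nat.card V = 256 := by
    have := Subgroup.card_eq_card_quotient_mul_card_subgroup (Subgroup.center ↥J)
    rw [S.card, S.extra.2] at this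
    show Nat.card (↥J ⧸ Subgroup.center ↥J) = 256
    omega
  have h2 : ∀ v : V, v + v = 0 := fun v => by
    obtain ⟨q, rfl⟩ := QuotientGroup.mk_surjective (Additive.toMul v)
    exact congrArg Additive.ofMul ((QuotientGroup.eq_one_iff _).2 (by rw [hcz]; exact S.sq_mem q.2))
  have hfix : ∀ q : ↥J, (∀ g, ρ g (cl q) = cl q) ↔ (q : G) ∈ S.fixPart := fun q => by
    refine ⟨fun hh => ⟨q.2, fun h hh' => ?_⟩, fun hq g => ?_⟩
    · have := hh (S.f ⟨h, hh'⟩)
      rw [hρ, hcl] at this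
      have e : h * q * h⁻¹ * (q : G)⁻¹ = (q : G) * (((h * q * h⁻¹)⁻¹ * q)⁻¹) * (q : G)⁻¹ := by group
      obtain ⟨n, hn⟩ := inv_mem this
      rw [e, show ((h * q * h⁻¹)⁻¹ * (q : G))⁻¹ = z ^ n from hn.symm, ((S.comm_z (S.memC q.2)).zpow_right n).eq,
        mul_inv_cancel_right]
      exact zpow_mem (mem_zpowers z) n
    · show act (sec g) (cl q) = _
      show cl (conjJ (sec g) q) = cl q
      rw [hcl]
      show (((sec g : ↥I) : G) * q * ((sec g : ↥I) : G)⁻¹)⁻¹ * q ∈ zpowers z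
      have := (S.fixPart.inv_mem hq).2 (sec g) (sec g).2
      rw [inv_inv] at this
      rwa [mul_inv_rev, mul_inv_rev, inv_inv, ← mul_assoc ((sec g : ↥I) : G)]
  obtain ⟨q₀, hq₀, hne, hq₀'⟩ := S.fixed
  have hnt : ∃ g, ρ g ≠ 1 := by
    by_contra hc
    push Not at hc
    have hall : ∀ (h : ↥I) (q : ↥J), (h : G) * q * (h : G)⁻¹ = q ∨ (h : G) * q * (h : G)⁻¹ = q * z := fun h q => by
      have e : cl q = cl (conjJ h q) := by rw [← hρ, hc]; rfl
      rcases S.cases ((hcl _ _).1 e) with h1 | h1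
      · exact Or.inl (inv_mul_eq_one.1 h1).symm
      · exact Or.inr (inv_mul_eq_iff_eq_mul.1 h1)
    have hab : ∀ x y : ↥U, x * y = y * x := fun x y => by
      obtain ⟨h, rfl⟩ := S.surj x
      obtain ⟨k, rfl⟩ := S.surj y
      rw [← mul_inv_eq_iff_eq_mul, ← mul_inv_eq_one, ← map_inv, ← map_inv, ← map_mul, ← map_mul, ← map_mul, S.ker]
      refine S.self _ (S.inC (SetLike.coe_mem _)) fun q hq => ?_
      have swap : ∀ (h k : ↥I), (h : G) * ((k : G) * q * (k : G)⁻¹) * (h : G)⁻¹ =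
          (k : G) * ((h : G) * q * (h : G)⁻¹) * (k : G)⁻¹ := fun h k => by
        have zc : ∀ h : ↥I, (h : G) * z * (h : G)⁻¹ = z := fun h => by
          rw [(S.comm_z (S.inC h.2)).eq, mul_inv_cancel_right]
        have step : ∀ (h : ↥I), (h : G) * (q * z) * (h : G)⁻¹ = ((h : G) * q * (h : G)⁻¹) * z := fun h => by
          rw [show (h : G) * (q * z) * (h : G)⁻¹ = (h : G) * q * (h : G)⁻¹ * ((h : G) * z * (h : G)⁻¹) by group, zc]
        rcases hall h ⟨q, hq⟩ with a | a <;> rcases hall k ⟨q, hq⟩ with b | b <;>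
          simp only [a, b, step]
      have e2 : ((h * k * h⁻¹ * k⁻¹ : ↥I) : G) * q * ((h * k * h⁻¹ * k⁻¹ : ↥I) : G)⁻¹ = q := by
        simp only [Subgroup.coe_mul, Subgroup.coe_inv]
        calc (h : G) * k * (h : G)⁻¹ * (k : G)⁻¹ * q * ((h : G) * k * (h : G)⁻¹ * (k : G)⁻¹)⁻¹
            = (h : G) * ((k : G) * (((h : G)⁻¹ * ((k : G)⁻¹ * q * (k : G)⁻¹⁻¹) * (h : G)⁻¹⁻¹)) * (k : G)⁻¹) * (h : G)⁻¹ := by
              group
          _ = (h : G) * ((k : G) * (((k : G)⁻¹ * ((h : G)⁻¹ * q * (h : G)⁻¹⁻¹) * (k : G)⁻¹⁻¹)) * (k : G)⁻¹) * (h : G)⁻¹ := by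
              rw [show ((h : G)⁻¹ * ((k : G)⁻¹ * q * (k : G)⁻¹⁻¹) * (h : G)⁻¹⁻¹) =
                (k : G)⁻¹ * ((h : G)⁻¹ * q * (h : G)⁻¹⁻¹) * (k : G)⁻¹⁻¹ from swap h⁻¹ k⁻¹]
          _ = q := by group
      exact mul_inv_eq_iff_eq_mul.1 e2
    have h2' := (USixType.commute_iff 0 1).1 (congrArg Subtype.val (hab ⟨tvP 0, tvP_mem 0⟩ ⟨tvP 1, tvP_mem 1⟩))
    revert h2'
    decide +kernel
  obtain ⟨ht4, htfix⟩ := fixed_part ρ hcard h2 hnt (v₀ := cl ⟨q₀, hq₀⟩)
    (fun e => hne (by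
      rw [show (0 : V) = cl 1 from rfl, hcl, Subgroup.coe_one, mul_one] at e
      exact inv_mem_iff.1 e))
    ((hfix _).2 ⟨hq₀, hq₀'⟩)
  have hT0 : ∀ q : ↥J, cl q ∈ T0 ρ ↔ (q : G) ∈ S.fixPart :=
    fun q => ⟨fun h => (hfix q).1 (htfix _ h), fun h a => (hfix q).2 h (dg a)⟩
  refine ⟨?_, fun j => ?_⟩
  · let Ts : Set (↥J ⧸ Subgroup.center ↥J) := {x | Additive.ofMul x ∈ T0 ρ}
    have e1 : ↥S.fixPart ≃ ↥(QuotientGroup.mk ⁻¹' Ts : Set ↥J) :=
      { toFun := fun q => ⟨⟨q, q.2.1⟩, (hT0 ⟨q, q.2.1⟩).2 q.2⟩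
        invFun := fun q => ⟨q.1, (hT0 q.1).1 q.2⟩
        left_inv := fun _ => rfl
        right_inv := fun _ => rfl }
    rw [Nat.card_congr (e1.trans (QuotientGroup.preimageMkEquivSubgroupProdSet _ Ts)), Nat.card_prod, S.extra.2,
      Nat.card_congr (Equiv.subtypeEquiv Additive.ofMul fun _ => Iff.rfl : ↥Ts ≃ ↥(T0 ρ)), ht4]
  · refine ⟨fun i => sec (dg i), fun i => conjJ (sec (dg i)) j, fun _ => rfl, ?_⟩
    refine (hT0 _).1 ?_
    have e : ∀ l : List ↥J, cl l.prod = (l.map cl).sum := fun l => by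
      induction l with
      | nil => rfl
      | cons a l ih => rw [List.prod_cons, List.map_cons, List.sum_cons, ← ih]; rfl
    rw [e, List.map_map]
    have : ((List.finRange 27).map (cl ∘ fun i => conjJ (sec (dg i)) j)).sum = NA ρ (cl j) :=
      (Fin.sum_univ_def _).symm
    rw [this]
    exact fun a => fix_NA ρ a _

/-- An invariant character vanishing on the fixed part is trivial. -/
theorem invariant_trivial [Finite G] {T : Subgroup G} (hT : T ≤ J) (hTI : ∀ h ∈ I, ∀ q ∈ T, h * q * h⁻¹ ∈ T)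
    {A : Type*} [CommGroup A] (φ : ↥T →* A) (hinv : ∀ h ∈ I, ∀ p q : ↥T, (q : G) = h * p * h⁻¹ → φ q = φ p)
    (h0 : ∀ q : ↥T, (q : G) ∈ S.fixPart → φ q = 1) (q : ↥T) : φ q = 1 := by
  obtain ⟨h, c, hc, hP⟩ := S.fix_facts.2 ⟨q, hT q.2⟩
  let c' : Fin 27 → ↥T := fun i => ⟨c i, by rw [hc]; exact hTI _ (h i).2 q q.2⟩
  have hcoe : ∀ l : List (Fin 27), (((l.map c').prod : ↥T) : G) = (((l.map c).prod : ↥J) : G) := fun l => by
    induction l with
    | nil => rfl
    | cons a l ih => simp only [List.map_cons, List.prod_cons, Subgroup.coe_mul, ih]; rfl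
  have h1 := h0 _ ((hcoe _).symm ▸ hP : ((((List.finRange 27).map c').prod : ↥T) : G) ∈ S.fixPart)
  rw [map_list_prod, List.map_map] at h1
  have h2 : ((List.finRange 27).map (φ ∘ c')) = List.replicate 27 (φ q) := by
    rw [List.eq_replicate_iff]
    refine ⟨by simp, fun b hb => ?_⟩
    obtain ⟨i, -, rfl⟩ := List.mem_map.1 hb
    exact hinv _ (h i).2 q (c' i) (hc i)
  rw [h2, List.prod_replicate] at h1
  have h3 : φ q * φ q = 1 := by
    rw [← map_mul]
    refine h0 _ ?_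
    rcases S.cases (S.sq_mem (hT q.2)) with e | e
    · rw [Subgroup.coe_mul, e]; exact one_mem _
    · rw [Subgroup.coe_mul, e]; exact S.z_fixPart
  rwa [show 27 = 2 * 13 + 1 from rfl, pow_succ, pow_mul, pow_two, h3, one_pow, one_mul] at h1

/-- An element of the fixed part commuting with the fixed part is central. -/
theorem fixPart_center [Finite G] {x : G} (hx : x ∈ S.fixPart) (hc : ∀ y ∈ S.fixPart, Commute x y) :
    x ∈ zpowers z := by
  obtain ⟨φ, hφ⟩ := S.exists_char hx.1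
  refine S.central hx.1 fun q hq => (hφ ⟨q, hq⟩).1 (S.invariant_trivial le_rfl
    (fun h hh q hq => S.conj_J (S.inC hh) hq) φ (fun h hh p q e => ?_) (fun q hq => (hφ q).2 (hc q hq)) ⟨q, hq⟩)
  have key : Commute x (p : G) ↔ Commute x (q : G) := by
    have hcase : ∀ {h : G}, h ∈ I → ∀ {p : G}, p ∈ J → Commute x p → Commute x (h * p * h⁻¹) := by
      intro h hh p hp hc
      have h1 : Commute (h * x * h⁻¹) (h * p * h⁻¹) := by
        show h * x * h⁻¹ * (h * p * h⁻¹) = h * p * h⁻¹ * (h * x * h⁻¹)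
        rw [show h * x * h⁻¹ * (h * p * h⁻¹) = h * (x * p) * h⁻¹ by group, hc.eq]
        group
      rcases S.cases (hx.2 h hh) with e | e
      · rwa [mul_inv_eq_one.1 e] at h1
      · rw [mul_inv_eq_iff_eq_mul.1 e] at h1
        have := (S.comm_z (S.memC (S.conj_J (S.inC hh) hp))).symm.inv_left.mul_left h1
        rwa [inv_mul_cancel_left] at this
    refine ⟨fun hc => e ▸ hcase hh p.2 hc, fun hc => ?_⟩
    have := hcase (inv_mem hh) q.2 hc
    rwa [e, inv_inv, show h⁻¹ * (h * (p : G) * h⁻¹) * h = (p : G) by group] at this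
  rcases Int.units_eq_one_or (φ p) with a | a <;> rcases Int.units_eq_one_or (φ q) with b | b <;>
    simp only [a, b] <;> exfalso
  · exact absurd ((hφ q).2 (key.1 ((hφ p).1 a))) (by rw [b]; decide)
  · exact absurd ((hφ p).2 (key.2 ((hφ q).1 b))) (by rw [a]; decide)

end FixSetting

end Cfsg.Lib.USixType.Ext
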